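import Groth.Agent.ZCorr.K754.SymLocus

/-!
# Zero-cycles of families of links
-/

set_option autoImplicit false
universe u

open CategoryTheory CategoryTheory.Limits AlgebraicGeometry TopologicalSpace
open Groth.Agent K952.Basic K952.Pts

namespace K754.SymRat

open SymPt SymCnt SymRel SymFwd LinkSpec SymProj LinkFam FamOps SymLocus K952 K952.P1Core Groth.Agent.CycA.MovRatZ

variable {k : Type u} [Field k] {X : Scheme.{u}} {p : X ⟶ Spec (CommRingCat.of k)} [IsProper p]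
  {Sy : ℕ → Scheme.{u}} {qs : (n : ℕ) → (SymProd.fibPow p n ⟶ Sy n)}
  {gs : (n : ℕ) → (Sy n ⟶ Spec (CommRingCat.of k))} (hS : ∀ n, SymProd.IsSymProd p n (qs n) (gs n))

include hS in
theorem ratPt_iff {d : ℕ} (c : Spec (CommRingCat.of k) ⟶ pullback (gs d) (gs d))
    (hc : c ≫ pullback.fst (gs d) (gs d) ≫ gs d = 𝟙 _) :
    RatPt p qs gs d c ↔ ∃ α β : AlgebraicCycle X ℤ,
      ZCorr.IsCycleOfSymPt p d (qs d) (c ≫ pullback.fst (gs d) (gs d)) ⇑α ∧
      ZCorr.IsCycleOfSymPt p d (qs d) (c ≫ pullback.snd (gs d) (gs d)) ⇑β ∧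
      Cyc.RatEquiv (fun x => (dm p x : ℤ)) 0 α β := by
  constructor
  · rintro ⟨x, x', hx, hx', h1, h2, h3⟩
    obtain ⟨α, hα⟩ := exists_cycle p x
    obtain ⟨β, hβ⟩ := exists_cycle p x'
    refine ⟨α, β, ?_, ?_, ?_⟩
    · rw [hα, ← h1]
      exact isCycle p (qs d) x
    · rw [hβ, ← h2]
      exact isCycle p (qs d) x'
    · rw [ratEquiv_iff, hα, hβ]
      exact h3
  · rintro ⟨α, β, ⟨x, hx, hx'⟩, ⟨y, hy, hy'⟩, h⟩
    have hα : ⇑α = cnt p x := funext hx'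
    have hβ : ⇑β = cnt p y := funext hy'
    rw [ratEquiv_iff, hα, hβ] at h
    refine ⟨x, y, ?_, ?_, hx, hy, h⟩
    · rw [← (hS d).over, ← Category.assoc, hx, Category.assoc, hc]
    · rw [← (hS d).over, ← Category.assoc, hy, Category.assoc, ← pullback.condition, hc]

theorem exists_cycles {d m : ℕ} (F : Fam p Sy qs gs d m) (t : Spec (CommRingCat.of k) ⟶ F.T) (ht : t ≫ F.τ = 𝟙 _) :
    ∃ γ a b c₀ c₁ : AlgebraicCycle X ℤ,
      ZCorr.IsCycleOfSymPt p m (qs m) (t ≫ F.b ≫ rx p (i3 d m) ≫ qs m) ⇑γ ∧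
      ZCorr.IsCycleOfSymPt p d (qs d) (t ≫ (F.b ≫ ρ hS d m) ≫ pullback.fst (gs d) (gs d)) ⇑a ∧
      ZCorr.IsCycleOfSymPt p d (qs d) (t ≫ (F.b ≫ ρ hS d m) ≫ pullback.snd (gs d) (gs d)) ⇑b ∧
      ZCorr.IsCycleOfSymPt p (d + m) (qs (d + m)) (pullback.lift t (tp k 0) (ht.trans (tp_toSpec k 0).symm) ≫ F.h) ⇑c₀ ∧
      ZCorr.IsCycleOfSymPt p (d + m) (qs (d + m)) (pullback.lift t (tp k 1) (ht.trans (tp_toSpec k 1).symm) ≫ F.h) ⇑c₁ ∧
      c₀ = γ + a ∧ c₁ = γ + b := by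
  have key : ∀ (s : Spec (CommRingCat.of k) ⟶ CohB1.ProjSpace 1 k) (hs : s ≫ CohB1.ProjSpace.toSpec 1 k = 𝟙 _),
      pullback.lift t s (ht.trans hs.symm) = t ≫ sec F.τ s hs := by
    intro s hs
    apply pullback.hom_ext
    · rw [pullback.lift_fst, Category.assoc, sec_fst, Category.comp_id]
    · rw [pullback.lift_snd, Category.assoc, sec_snd, ← Category.assoc, ht, Category.id_comp]
  obtain ⟨γ, hγ⟩ := exists_cycle p ((t ≫ F.b) ≫ rx p (i3 d m))
  obtain ⟨a, ha⟩ := exists_cycle p ((t ≫ F.b) ≫ rx p (i1 d m))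
  obtain ⟨b, hb⟩ := exists_cycle p ((t ≫ F.b) ≫ rx p (i2 d m))
  obtain ⟨c₀, hc₀⟩ := exists_cycle p ((t ≫ F.b) ≫ rx p (i13 d m))
  obtain ⟨c₁, hc₁⟩ := exists_cycle p ((t ≫ F.b) ≫ rx p (i23 d m))
  refine ⟨γ, a, b, c₀, c₁, ?_, ?_, ?_, ?_, ?_, ?_, ?_⟩
  · rw [hγ]
    have := isCycle p (qs m) ((t ≫ F.b) ≫ rx p (i3 d m))
    simpa only [Category.assoc] using this
  · rw [ha, Category.assoc, ρ_fst]
    have := isCycle p (qs d) ((t ≫ F.b) ≫ rx p (i1 d m))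
    simpa only [Category.assoc] using this
  · rw [hb, Category.assoc, ρ_snd]
    have := isCycle p (qs d) ((t ≫ F.b) ≫ rx p (i2 d m))
    simpa only [Category.assoc] using this
  · rw [hc₀, key _ (tp_toSpec k 0), Category.assoc, F.e₀]
    have := isCycle p (qs (d + m)) ((t ≫ F.b) ≫ rx p (i13 d m))
    simpa only [Category.assoc] using this
  · rw [hc₁, key _ (tp_toSpec k 1), Category.assoc, F.e₁]
    have := isCycle p (qs (d + m)) ((t ≫ F.b) ≫ rx p (i23 d m))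
    simpa only [Category.assoc] using this
  · apply DFunLike.coe_injective
    rw [hc₀]
    funext x
    rw [cnt_i13]
    change _ = γ x + a x
    rw [hγ, ha, add_comm]
  · apply DFunLike.coe_injective
    rw [hc₁]
    funext x
    rw [cnt_i23]
    change _ = γ x + b x
    rw [hγ, hb, add_comm]

end K754.SymRat
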