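import Groth.Agent.ZCorr.K754.RatGen

/-!
# The flat limit of a rational curve
-/

set_option autoImplicit false
universe u

open CategoryTheory CategoryTheory.Limits AlgebraicGeometry TopologicalSpace
open Groth.Agent K754.RatCov

namespace K754.RatFib

/-- In a connected Noetherian space an irreducible component which is a point is everything. -/
theorem eq_univ_of_subsingleton {F : Type*} [TopologicalSpace F] [NoetherianSpace F]
    (hc : _root_.IsPreconnected (Set.univ : Set F)) {T : Set F} (hT : T ∈ irreducibleComponents F)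
    (hs : T.Subsingleton) : T = Set.univ := by
  have hne : T.Nonempty := hT.1.1
  obtain ⟨t, ht⟩ := hne
  have hTt : T = {t} := hs.eq_singleton_of_mem ht
  have hfin : (irreducibleComponents F).Finite := NoetherianSpace.finite_irreducibleComponents
  have hcl : IsClosed T := isClosed_of_mem_irreducibleComponents T hT
  let R : Set F := ⋃₀ (irreducibleComponents F \ {T})
  have hR : IsClosed R := by
    rw [show R = ⋃ W ∈ irreducibleComponents F \ {T}, W from Set.sUnion_eq_biUnion]
    refine (hfin.subset Set.sdiff_subset).isClosed_biUnion fun W hW => ?_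
    exact isClosed_of_mem_irreducibleComponents W hW.1
  have hcover : (Set.univ : Set F) ⊆ T ∪ R := by
    intro x _
    by_cases hx : irreducibleComponent x = T
    · left; rw [← hx]; exact mem_irreducibleComponent
    · right; exact ⟨irreducibleComponent x, ⟨irreducibleComponent_mem_irreducibleComponents x, hx⟩, mem_irreducibleComponent⟩
  have hdisj : (Set.univ : Set F) ∩ (T ∩ R) = ∅ := by
    rw [Set.univ_inter]
    apply Set.eq_empty_of_forall_notMem
    rintro x ⟨hx, W, ⟨hW, hWT⟩, hxW⟩
    rw [hTt] at hx
    have hxt : x = t := hx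
    subst hxt
    have h1 : T ⊆ W := by rw [hTt]; exact Set.singleton_subset_iff.2 hxW
    exact hWT (le_antisymm (hT.2 hW.1 h1) h1)
  by_contra hne
  obtain ⟨y, hy⟩ : ∃ y, y ∉ T := by
    by_contra h
    push Not at h
    exact hne (Set.eq_univ_of_forall h)
  have hyR : y ∈ R := (hcover (Set.mem_univ y)).resolve_left hy
  obtain ⟨w, hw⟩ := (isPreconnected_closed_iff.1 hc) T R hcl hR hcover ⟨t, trivial, ht⟩ ⟨y, trivial, hyR⟩
  rw [hdisj] at hw
  exact hw

/-- A proper scheme over a local ring with exactly one point over the closed point is finite. -/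
theorem isFinite_of_subsingleton {A : Type u} [CommRing A] [IsLocalRing A] {Y : Scheme.{u}}
    (y : Y ⟶ Spec (CommRingCat.of A)) [IsProper y] (hs : (y ⁻¹' {IsLocalRing.closedPoint A}).Subsingleton) :
    IsFinite y := by
  have key : IsAffine Y := by
    by_cases hne : (y ⁻¹' {IsLocalRing.closedPoint A}).Nonempty
    · obtain ⟨t, ht⟩ := hne
      obtain ⟨V, hV, htV, -⟩ := exists_isAffineOpen_mem_and_subset (U := (⊤ : Y.Opens)) (show t ∈ (⊤ : Y.Opens) from trivial)
      have hVtop : V = ⊤ := by
        apply TopologicalSpace.Opens.ext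
        apply Set.eq_univ_of_forall
        intro w
        by_contra hw
        have hcl : IsClosed (y '' (V : Set Y)ᶜ) := y.isClosedMap _ V.2.isClosed_compl
        have h1 : IsLocalRing.closedPoint A ∈ y '' (V : Set Y)ᶜ :=
          (IsLocalRing.specializes_closedPoint (y w)).mem_closed hcl ⟨w, hw, rfl⟩
        obtain ⟨w', hw', hyw'⟩ := h1
        have h2 : w' = t := hs hyw' ht
        exact hw' (h2 ▸ htV)
      subst hVtop
      have : IsAffine ((⊤ : Y.Opens) : Scheme.{u}) := hV
      exact IsAffine.of_isIso Y.topIso.inv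
    · have : IsEmpty Y := by
        constructor
        intro w
        have h1 : IsLocalRing.closedPoint A ∈ Set.range y :=
          (IsLocalRing.specializes_closedPoint (y w)).mem_closed y.isClosedMap.isClosed_range ⟨w, rfl⟩
        obtain ⟨w', hw'⟩ := h1
        exact hne ⟨w', hw'⟩
      infer_instance
  rw [IsFinite.iff_isProper_and_isAffineHom]
  exact ⟨inferInstance, inferInstance⟩

/-- There is no nontrivial specialization in the fibres of a finite morphism. -/
theorem eq_of_specializes {Y S : Scheme.{u}} (y : Y ⟶ S) [IsFinite y] {a b : Y} (h : a ⤳ b) (hab : y a = y b) : a = b := by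
  have h1 := y.isDiscrete_preimage_singleton (y b)
  have h2 : DiscreteTopology (y ⁻¹' {y b}) := h1.to_subtype
  have h3 : (⟨a, hab⟩ : y ⁻¹' {y b}) ⤳ ⟨b, rfl⟩ := by
    rw [Topology.IsInducing.subtypeVal.specializes_iff.symm]
    exact h
  have h4 := h3.eq
  exact congrArg Subtype.val h4

/-- A space of dimension one has a nontrivial specialization. -/
theorem exists_specializes {T : Type*} [TopologicalSpace T] [QuasiSober T] (h : topologicalKrullDim T = 1) :
    ∃ a b : T, a ⤳ b ∧ a ≠ b := by
  have h1 : 0 < Order.krullDim (IrreducibleCloseds T) := by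
    change 0 < topologicalKrullDim T
    rw [h]
    exact zero_lt_one
  obtain ⟨Z₀, Z₁, hlt⟩ := Order.krullDim_pos_iff.1 h1
  obtain ⟨a, ha⟩ := QuasiSober.sober Z₁.isIrreducible Z₁.isClosed
  obtain ⟨b, hb⟩ := Z₀.isIrreducible.nonempty
  have hb1 : b ∈ (Z₁ : Set T) := hlt.le hb
  refine ⟨a, b, ?_, ?_⟩
  · rw [specializes_iff_mem_closure, ha.def]
    exact hb1
  · rintro rfl
    apply hlt.not_ge
    change (Z₁ : Set T) ⊆ Z₀
    rw [← ha.def]
    exact closure_minimal (Set.singleton_subset_iff.2 hb) Z₀.isClosed

variable {A : Type u} [CommRing A] [IsDomain A] [IsDiscreteValuationRing A]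

/-- **The flat limit of a rational curve is connected with rational components.** -/
theorem main [IsAlgClosed (IsLocalRing.ResidueField A)]
    {X : Scheme.{u}} (f : X ⟶ Spec (CommRingCat.of A)) (hf : RelProj.IsHProjective f)
    (η s : ↥(Spec (CommRingCat.of A))) (hη : η.asIdeal = ⊥) (hs : s.asIdeal = IsLocalRing.maximalIdeal A)
    (hdim : topologicalKrullDim ↥(f.fiber η) = 1)
    (hrat : ∃ φ : CohB1.ProjSpace 1 ↑((Spec (CommRingCat.of A)).residueField η) ⟶ f.fiber η,
      φ ≫ f.fiberToSpecResidueField η = CohB1.ProjSpace.toSpec 1 ↑((Spec (CommRingCat.of A)).residueField η) ∧ DenseRange ⇑φ) :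
    _root_.IsConnected (Set.univ : Set ↥(((f.fiberι η).imageι ≫ f).fiber s)) ∧
      ∀ Z ∈ irreducibleComponents ↥(((f.fiberι η).imageι ≫ f).fiber s),
        ∃ ψ : CohB1.ProjSpace 1 ↑((Spec (CommRingCat.of A)).residueField s) ⟶ ((f.fiberι η).imageι ≫ f).fiber s,
          ψ ≫ ((f.fiberι η).imageι ≫ f).fiberToSpecResidueField s = CohB1.ProjSpace.toSpec 1 ↑((Spec (CommRingCat.of A)).residueField s) ∧
          (Set.range ⇑ψ).Nontrivial ∧ Set.range ⇑ψ = Z := by
  let S := Spec (CommRingCat.of A)
  have hopen : IsOpenImmersion (S.fromSpecResidueField η) := RatGen.isOpenImmersion_fromSpecResidueField η hη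
  have hcl : IsClosedImmersion (S.fromSpecResidueField s) :=
    isClosed_singleton_iff_isClosedImmersion.1 (RatGen.isClosed_of_asIdeal s hs)
  have hfp : IsProper f := by
    obtain ⟨n, i, hi, hif⟩ := hf
    rw [← hif]
    infer_instance
  obtain ⟨φ, hφ1, hφ2⟩ := hrat
  -- `φ` is surjective
  have hφp : IsProper φ := by
    have h1 : IsProper (φ ≫ f.fiberToSpecResidueField η) := by rw [hφ1]; infer_instance
    have h2 : IsSeparated (f.fiberToSpecResidueField η) := inferInstanceAs (IsSeparated (pullback.snd _ _))
    exact IsProper.of_comp φ (f.fiberToSpecResidueField η)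
  have hφs : Function.Surjective φ := by
    intro x
    have h1 := hφ2 x
    rwa [φ.isClosedMap.isClosed_range.closure_eq] at h1
  have hφf : (φ ≫ f.fiberι η) ≫ f = CohB1.ProjSpace.toSpec 1 (S.residueField η) ≫ S.fromSpecResidueField η := by
    rw [Category.assoc, f.fiber_fac, ← Category.assoc, hφ1]
  obtain ⟨Z, r, g, j, hZ, hr, hg, hcov, hj, hjg, hjr, hjrange⟩ := RatGen.exists_model_gen f hf η s hη hs (φ ≫ f.fiberι η) hφf
  let z : Z ⟶ S := r ≫ CohB1.ProjSpace.toSpec 1 A
  have hzp : IsProper z := inferInstance
  let iY := (f.fiberι η).imageι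
  let y := iY ≫ f
  have hyp : IsProper y := inferInstance
  have hqc : QuasiCompact (f.fiberι η) := inferInstanceAs (QuasiCompact (pullback.fst f (S.fromSpecResidueField η)))
  have hiY : Set.range iY = closure (Set.range (f.fiberι η)) := by
    rw [Scheme.IdealSheafData.range_subschemeι]
    exact Scheme.Hom.support_ker (f.fiberι η)
  have hintP : IsIntegral (CohB1.ProjSpace 1 (S.residueField η)) := K711.ProjDim.isIntegral_projSpace 1 _
  have hdense : closure (Set.range j) = Set.univ :=
    (IsOpen.dense j.isOpenEmbedding.isOpen_range (Set.range_nonempty j)).closure_eq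
  -- the image of `g`
  have hgimg : g '' (Set.range j) = Set.range (f.fiberι η) := by
    rw [← Set.range_comp, ← TopCat.coe_comp, ← Scheme.Hom.comp_base, hjg, Scheme.Hom.comp_base, TopCat.coe_comp,
      Set.range_comp, hφs.range_eq, Set.image_univ]
  have hgp : IsProper g := by
    have : IsProper (g ≫ f) := by rw [hg]; exact hzp
    exact IsProper.of_comp g f
  have hgrange : Set.range g = Set.range iY := by
    rw [hiY, ← hgimg]
    apply le_antisymm
    · rw [← Set.image_univ, ← hdense]
      exact image_closure_subset_closure_image g.continuous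
    · exact closure_minimal (Set.image_subset_range _ _) g.isClosedMap.isClosed_range
  obtain ⟨h, hh⟩ := Groth.Agent.Ega1.ReducedSub.exists_factor_of_range_subset g iY hgrange.le
  have hhy : h ≫ y = z := by rw [← Category.assoc, hh, hg]
  have hhs : Function.Surjective h := by
    intro w
    have h1 : iY w ∈ Set.range g := by rw [hgrange]; exact ⟨w, rfl⟩
    obtain ⟨x, hx⟩ := h1
    refine ⟨x, iY.isEmbedding.injective ?_⟩
    rw [← hx, ← hh]
    rfl
  have hrs : Set.range (S.fromSpecResidueField s) = {s} := Scheme.range_fromSpecResidueField s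
  have hfib : y ⁻¹' {s} = h '' (z ⁻¹' Set.range (S.fromSpecResidueField s)) := by
    rw [hrs]
    apply le_antisymm
    · intro w hw
      obtain ⟨x, rfl⟩ := hhs w
      refine ⟨x, ?_, rfl⟩
      rw [← hhy]
      exact hw
    · rintro _ ⟨x, hx, rfl⟩
      rw [← hhy] at hx
      exact hx
  let F := y.fiber s
  have hFi : Function.Injective (y.fiberι s) := (y.fiberι s).isEmbedding.injective
  have hFr : Set.range (y.fiberι s) = y ⁻¹' {s} := y.range_fiberι s
  have hzs : ∃ x : Z, z x = s := by
    have h1 : s ∈ Set.range z := by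
      have h2 : η ∈ Set.range z := by
        obtain ⟨t⟩ : Nonempty (CohB1.ProjSpace 1 (S.residueField η)) := inferInstance
        have h3 : j t ∈ Set.range j := ⟨t, rfl⟩
        rw [hjrange] at h3
        exact ⟨j t, h3⟩
      have h3 : η ⤳ s := by
        rw [RatGen.eq_closedPoint s hs]
        exact IsLocalRing.specializes_closedPoint η
      exact h3.mem_closed z.isClosedMap.isClosed_range h2
    exact h1
  have hpre : _root_.IsPreconnected (Set.univ : Set F) := by
    rw [← (y.fiberι s).isEmbedding.isInducing.isPreconnected_image, Set.image_univ, hFr, hfib]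
    exact hcov.conn.image _ h.continuous.continuousOn
  have hne : (Set.univ : Set F).Nonempty := by
    obtain ⟨x, hx⟩ := hzs
    have h1 : h x ∈ Set.range (y.fiberι s) := by
      rw [hFr]
      change y (h x) = s
      rw [← Scheme.Hom.comp_apply, hhy]
      exact hx
    obtain ⟨w, hw⟩ := h1
    exact ⟨w, trivial⟩
  refine ⟨⟨hne, hpre⟩, fun T hT => ?_⟩
  have hTcl : IsClosed T := isClosed_of_mem_irreducibleComponents T hT
  obtain ⟨ζ, hζ⟩ := QuasiSober.sober hT.1 hTcl
  have hζs : y (y.fiberι s ζ) = s := by
    have : y.fiberι s ζ ∈ Set.range (y.fiberι s) := ⟨ζ, rfl⟩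
    rw [hFr] at this
    exact this
  obtain ⟨x, hx⟩ := hhs (y.fiberι s ζ)
  have hxs : z x ∈ Set.range (S.fromSpecResidueField s) := by
    rw [hrs, ← hhy, Scheme.Hom.comp_apply, hx, hζs]
    rfl
  obtain ⟨ψ, hψ, t, ht⟩ := hcov.cov x hxs
  have hcomm : (ψ ≫ h) ≫ y = CohB1.ProjSpace.toSpec 1 (S.residueField s) ≫ S.fromSpecResidueField s := by
    rw [Category.assoc, hhy, hψ]
  let ψ' : CohB1.ProjSpace 1 (S.residueField s) ⟶ F :=
    pullback.lift (ψ ≫ h) (CohB1.ProjSpace.toSpec 1 (S.residueField s)) hcomm
  have hψ1 : ψ' ≫ y.fiberι s = ψ ≫ h := pullback.lift_fst _ _ _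
  have hψ2 : ψ' ≫ y.fiberToSpecResidueField s = CohB1.ProjSpace.toSpec 1 (S.residueField s) := pullback.lift_snd _ _ _
  have hψ'p : IsProper ψ' := by
    have h1 : IsProper (ψ' ≫ y.fiberToSpecResidueField s) := by rw [hψ2]; infer_instance
    have h2 : IsSeparated (y.fiberToSpecResidueField s) := inferInstanceAs (IsSeparated (pullback.snd _ _))
    exact IsProper.of_comp ψ' (y.fiberToSpecResidueField s)
  have hintS : IsIntegral (CohB1.ProjSpace 1 (S.residueField s)) := K711.ProjDim.isIntegral_projSpace 1 _
  have hζψ : ψ' t = ζ := by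
    apply hFi
    rw [← Scheme.Hom.comp_apply, hψ1, Scheme.Hom.comp_apply, ht, hx]
  have hirr : IsIrreducible (Set.range ψ') := by
    rw [← Set.image_univ]
    exact (IrreducibleSpace.isIrreducible_univ _).image _ ψ'.continuous.continuousOn
  have hTle : T ⊆ Set.range ψ' := by
    rw [← hζ.def]
    exact closure_minimal (Set.singleton_subset_iff.2 ⟨t, hζψ⟩) ψ'.isClosedMap.isClosed_range
  have hTeq : Set.range ψ' = T := le_antisymm (hT.2 hirr hTle) hTle
  refine ⟨ψ', hψ2, ?_, hTeq⟩
  rw [← Set.not_subsingleton_iff, hTeq]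
  intro hsub
  have hFn : NoetherianSpace F := by
    have h2 : LocallyOfFiniteType (y.fiberToSpecResidueField s) :=
      inferInstanceAs (LocallyOfFiniteType (pullback.snd _ _))
    have h1 : IsLocallyNoetherian F := LocallyOfFiniteType.isLocallyNoetherian (y.fiberToSpecResidueField s)
    have h3 : QuasiCompact (y.fiberToSpecResidueField s) := inferInstanceAs (QuasiCompact (pullback.snd _ _))
    have h4 : CompactSpace F := QuasiCompact.compactSpace_of_compactSpace (y.fiberToSpecResidueField s)
    have h5 : IsNoetherian F := { }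
    infer_instance
  have hTu := eq_univ_of_subsingleton hpre hT hsub
  have hys : (y ⁻¹' {IsLocalRing.closedPoint A}).Subsingleton := by
    have h1 : (y ⁻¹' {s}).Subsingleton := by
      have h2 : (Set.range (y.fiberι s)).Subsingleton := by
        rw [← Set.image_univ, ← hTu]
        exact hsub.image _
      rw [hFr] at h2
      exact h2
    rw [← RatGen.eq_closedPoint s hs]
    exact h1
  have hfin : IsFinite y := isFinite_of_subsingleton y hys
  have hqsX : QuasiSober (f.fiber η) := inferInstance
  obtain ⟨a, b, hab, hne'⟩ := exists_specializes hdim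
  have ha : f.fiberι η a ∈ Set.range iY := by rw [hiY]; exact subset_closure ⟨a, rfl⟩
  have hb : f.fiberι η b ∈ Set.range iY := by rw [hiY]; exact subset_closure ⟨b, rfl⟩
  obtain ⟨a', ha'⟩ := ha
  obtain ⟨b', hb'⟩ := hb
  have hab' : a' ⤳ b' := by
    rw [← iY.isEmbedding.isInducing.specializes_iff, ha', hb']
    exact hab.map (f.fiberι η).continuous
  have hya : ∀ (c : f.fiber η) (c' : (f.fiberι η).image), iY c' = f.fiberι η c → y c' = η := by
    intro c c' hc
    change (iY ≫ f) c' = η
    rw [Scheme.Hom.comp_apply, hc]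
    have : f.fiberι η c ∈ Set.range (f.fiberι η) := ⟨c, rfl⟩
    rw [f.range_fiberι η] at this
    exact this
  have := eq_of_specializes y hab' ((hya a a' ha').trans (hya b b' hb').symm)
  apply hne'
  apply (f.fiberι η).isEmbedding.injective
  rw [← ha', ← hb', this]

end K754.RatFib
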