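import Groth.Agent.S15237
import Groth.Agent.S2396
import Groth.Agent.Ega1.ReducedSub
import Mathlib.AlgebraicGeometry.Morphisms.FinitePresentation
import Mathlib.AlgebraicGeometry.Noetherian

/-!
# Countable covers by constructible sets over uncountable fields

`exists_finite_cover`: over an uncountable field, countably many constructible sets covering the closed points of a
closed subset of a scheme of finite type: finitely many of them suffice.
-/

set_option autoImplicit false
universe u

open CategoryTheory CategoryTheory.Limits AlgebraicGeometry TopologicalSpace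
open Groth.Agent

namespace K754.BaireFin

/-- Chevalley's theorem for the range of a morphism of finite type of noetherian schemes. -/
theorem isConstructible_range {T P : Scheme.{u}} [IsLocallyNoetherian P] [CompactSpace P] [QuasiSeparatedSpace P]
    (f : T ⟶ P) [LocallyOfFiniteType f] [QuasiCompact f] : Topology.IsConstructible (Set.range f) := by
  have h1 : LocallyOfFinitePresentation f := inferInstance
  have := f.isConstructible_image (s := Set.univ) Topology.IsConstructible.univ
  rwa [Set.image_univ] at this

theorem exists_finite_cover {k : Type u} [Field k] [Uncountable k] {P : Scheme.{u}}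
    (gP : P ⟶ Spec (CommRingCat.of k)) [LocallyOfFiniteType gP] [QuasiCompact gP] {ι : Type*} [Countable ι]
    (E : ι → Set P) (hE : ∀ i, Topology.IsConstructible (E i)) (Z : Closeds P)
    (h : ∀ x ∈ Z, IsClosed ({x} : Set P) → ∃ i, x ∈ E i) :
    ∃ s : Finset ι, ∀ x ∈ Z, IsClosed ({x} : Set P) → ∃ i ∈ s, x ∈ E i := by
  classical
  have hPn : IsLocallyNoetherian P := LocallyOfFiniteType.isLocallyNoetherian gP
  have hPc : CompactSpace P := QuasiCompact.compactSpace_of_compactSpace gP
  have hPn' : IsNoetherian P := {}
  have hN : NoetherianSpace P := inferInstance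
  induction Z using WellFoundedLT.induction with
  | ind Z ih =>
    rcases Z.1.eq_empty_or_nonempty with he | hne
    · exact ⟨∅, fun x hx => absurd (show x ∈ Z.1 from hx) (by rw [he]; exact Set.notMem_empty x)⟩
    by_cases hirr : IsPreirreducible (Z : Set P)
    · have hirr' : IsIrreducible (Z : Set P) := ⟨hne, hirr⟩
      by_cases hex : ∃ i, ∃ U : Set P, IsOpen U ∧ (U ∩ (Z : Set P)).Nonempty ∧ U ∩ (Z : Set P) ⊆ E i
      · obtain ⟨i, U, hU, ⟨y, hyU, hyZ⟩, hUE⟩ := hex
        let Z' : Closeds P := ⟨(Z : Set P) ∩ Uᶜ, Z.2.inter hU.isClosed_compl⟩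
        have hlt : Z' < Z := by
          refine lt_of_le_of_ne (fun x hx => hx.1) (fun heq => ?_)
          have : y ∈ Z' := by rw [heq]; exact hyZ
          exact this.2 hyU
        obtain ⟨s, hs⟩ := ih Z' hlt (fun x hx => h x hx.1)
        refine ⟨insert i s, fun x hx hxc => ?_⟩
        by_cases hxU : x ∈ U
        · exact ⟨i, Finset.mem_insert_self _ _, hUE ⟨hxU, hx⟩⟩
        · obtain ⟨j, hj, hxj⟩ := hs x ⟨hx, hxU⟩ hxc
          exact ⟨j, Finset.mem_insert_of_mem hj, hxj⟩
      · exfalso
        have hnd : ∀ i, IsNowhereDense (Subtype.val ⁻¹' E i : Set (Z : Set P)) := by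
          intro i
          rcases (S2396.result (E i)).mp (hE i) Z Z.2 hirr' with h1 | h1
          · exact h1
          · exact absurd ⟨i, h1⟩ hex
        -- the reduced subscheme
        let I := Scheme.IdealSheafData.vanishingIdeal Z
        let j := I.subschemeι
        have hjr : Set.range j = (Z : Set P) := by
          rw [Scheme.IdealSheafData.range_subschemeι]
          exact Scheme.IdealSheafData.coe_support_vanishingIdeal _
        have hje : Topology.IsClosedEmbedding j := j.isClosedEmbedding
        let e : I.subscheme ≃ₜ Set.range j := hje.isEmbedding.toHomeomorph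
        have hZirr : IrreducibleSpace I.subscheme := by
          refine e.irreducibleSpace_iff.2 ?_
          rw [hjr]
          exact isIrreducible_iff_irreducibleSpace.1 hirr'
        let ψ : I.subscheme ≃ₜ (Z : Set P) := e.trans (Homeomorph.setCongr hjr)
        have hψ : ∀ x, (ψ x : P) = j x := fun x => rfl
        let C : ι → Closeds I.subscheme := fun i => ⟨closure (j ⁻¹' E i), isClosed_closure⟩
        have hC : ∀ i, (C i : Set I.subscheme) ≠ Set.univ := by
          intro i hi
          have h1 : (C i : Set I.subscheme) = ψ ⁻¹' closure (Subtype.val ⁻¹' E i : Set (Z : Set P)) := by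
            rw [ψ.preimage_closure]
            rfl
          have h2 : closure (Subtype.val ⁻¹' E i : Set (Z : Set P)) = Set.univ := by
            rw [h1] at hi
            have := congrArg (fun S => ψ '' S) hi
            simpa using this
          have h3 : interior (closure (Subtype.val ⁻¹' E i : Set (Z : Set P))) = ∅ := hnd i
          rw [h2, interior_univ] at h3
          obtain ⟨y, hy⟩ := hne
          exact (Set.notMem_empty (⟨y, hy⟩ : (Z : Set P))) (h3 ▸ Set.mem_univ _)
        have hft : LocallyOfFiniteType (j ≫ gP) := inferInstance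
        have hqc : QuasiCompact (j ≫ gP) := inferInstance
        obtain ⟨enc⟩ := nonempty_encodable ι
        obtain ⟨x, hxc, hx⟩ := S15237.result k I.subscheme (j ≫ gP)
          (fun n => ((Encodable.decode n : Option ι).elim ⊥ C)) (fun n => by
            rcases hn : (Encodable.decode n : Option ι) with _ | i
            · simp only [Option.elim_none]
              intro h1
              have h2 : (Classical.arbitrary I.subscheme) ∈ ((⊥ : Closeds I.subscheme) : Set I.subscheme) := by
                rw [h1]; exact Set.mem_univ _
              exact h2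
            · simp only [Option.elim_some]
              exact hC i)
        have hjx : IsClosed ({j x} : Set P) := by
          have := hje.isClosedMap _ hxc
          rwa [Set.image_singleton] at this
        obtain ⟨i, hi⟩ := h (j x) (by
          have : j x ∈ Set.range j := ⟨x, rfl⟩
          rw [hjr] at this
          exact this) hjx
        have h4 := hx (Encodable.encode i)
        rw [Encodable.encodek] at h4
        exact h4 (subset_closure hi)
    · have hnot : ¬ IsPreirreducible (Z : Set P) := hirr
      rw [isPreirreducible_iff_isClosed_union_isClosed] at hnot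
      push Not at hnot
      obtain ⟨Z₁, Z₂, hZ₁, hZ₂, hsub, hn₁, hn₂⟩ := hnot
      have hlt : ∀ (C : Set P) (hC : IsClosed C), ¬ (Z : Set P) ⊆ C → (Z ⊓ ⟨C, hC⟩ : Closeds P) < Z := by
        intro C hC hn
        refine lt_of_le_of_ne inf_le_left (fun heq => hn fun x hx => ?_)
        have : x ∈ (Z ⊓ ⟨C, hC⟩ : Closeds P) := by rw [heq]; exact hx
        exact this.2
      obtain ⟨s₁, hs₁⟩ := ih _ (hlt Z₁ hZ₁ hn₁) (fun x hx => h x hx.1)
      obtain ⟨s₂, hs₂⟩ := ih _ (hlt Z₂ hZ₂ hn₂) (fun x hx => h x hx.1)
      refine ⟨s₁ ∪ s₂, fun x hx hxc => ?_⟩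
      rcases hsub hx with h1 | h1
      · obtain ⟨i, hi, hxi⟩ := hs₁ x ⟨hx, h1⟩ hxc
        exact ⟨i, Finset.mem_union_left _ hi, hxi⟩
      · obtain ⟨i, hi, hxi⟩ := hs₂ x ⟨hx, h1⟩ hxc
        exact ⟨i, Finset.mem_union_right _ hi, hxi⟩

end K754.BaireFin
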