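import Groth.Agent.ZCorr.K754.RatCov
import Groth.Agent.Sga7.H270.FinPts
import Mathlib.AlgebraicGeometry.AlgClosed.Basic

/-!
# Chains of rational curves in a connected fibre covered by rational curves
-/

set_option autoImplicit false
universe u

open CategoryTheory CategoryTheory.Limits AlgebraicGeometry TopologicalSpace
open Groth.Agent K754.RatCov

namespace K754.Chain

/-- In a connected Noetherian space covered by irreducible closed sets on which all closed points are related, all
closed points are related. -/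
theorem chain {F : Type*} [TopologicalSpace F] [NoetherianSpace F] [QuasiSober F] [T0Space F]
    (hc : _root_.IsPreconnected (Set.univ : Set F)) (R : F → F → Prop)
    (htrans : ∀ a b c, IsClosed ({b} : Set F) → R a b → R b c → R a c)
    (hcov : ∀ x : F, ∃ C : Set F, IsClosed C ∧ x ∈ C ∧ IsIrreducible C ∧
      ∀ a ∈ C, ∀ b ∈ C, IsClosed ({a} : Set F) → IsClosed ({b} : Set F) → R a b)
    (a b : F) (ha : IsClosed ({a} : Set F)) (hb : IsClosed ({b} : Set F)) : R a b := by
  have hcomp : ∀ T ∈ irreducibleComponents F, ∀ x ∈ T, ∀ y ∈ T, IsClosed ({x} : Set F) → IsClosed ({y} : Set F) →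
      R x y := by
    intro T hT x hx y hy hxc hyc
    have hTcl : IsClosed T := isClosed_of_mem_irreducibleComponents T hT
    obtain ⟨ζ, hζ⟩ := QuasiSober.sober hT.1 hTcl
    obtain ⟨C, hC, hζC, hCi, hCR⟩ := hcov ζ
    have h1 : T ⊆ C := by
      rw [← hζ.def]
      exact closure_minimal (Set.singleton_subset_iff.2 hζC) hC
    exact hCR x (h1 hx) y (h1 hy) hxc hyc
  let G : Set (Set F) := {T | T ∈ irreducibleComponents F ∧ ∀ x ∈ T, IsClosed ({x} : Set F) → R a x}
  let B : Set (Set F) := irreducibleComponents F \ G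
  have hfin : (irreducibleComponents F).Finite := NoetherianSpace.finite_irreducibleComponents
  have hGcl : IsClosed (⋃₀ G) := by
    rw [Set.sUnion_eq_biUnion]
    exact (hfin.subset fun T hT => hT.1).isClosed_biUnion fun W hW => isClosed_of_mem_irreducibleComponents W hW.1
  have hBcl : IsClosed (⋃₀ B) := by
    rw [Set.sUnion_eq_biUnion]
    exact (hfin.subset fun T hT => hT.1).isClosed_biUnion fun W hW => isClosed_of_mem_irreducibleComponents W hW.1
  have hmem : ∀ x, irreducibleComponent x ∈ irreducibleComponents F := fun x =>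
    irreducibleComponent_mem_irreducibleComponents x
  have hcover : (Set.univ : Set F) ⊆ ⋃₀ G ∪ ⋃₀ B := by
    intro x _
    by_cases hx : irreducibleComponent x ∈ G
    · exact Or.inl ⟨_, hx, mem_irreducibleComponent⟩
    · exact Or.inr ⟨_, ⟨hmem x, hx⟩, mem_irreducibleComponent⟩
  have haG : irreducibleComponent a ∈ G :=
    ⟨hmem a, fun x hx hxc => hcomp _ (hmem a) a mem_irreducibleComponent x hx ha hxc⟩
  by_cases hbG : irreducibleComponent b ∈ G
  · exact hbG.2 b mem_irreducibleComponent hb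
  · exfalso
    obtain ⟨w, -, ⟨T, hT, hwT⟩, T', hT', hwT'⟩ := (isPreconnected_closed_iff.1 hc) _ _ hGcl hBcl hcover
      ⟨a, trivial, _, haG, mem_irreducibleComponent⟩ ⟨b, trivial, _, ⟨hmem b, hbG⟩, mem_irreducibleComponent⟩
    obtain ⟨v, hv, hvc⟩ := IsClosed.exists_closed_singleton (isClosed_closure (s := ({w} : Set F)))
      ⟨w, subset_closure rfl⟩
    have hvT : v ∈ T := closure_minimal (Set.singleton_subset_iff.2 hwT)
      (isClosed_of_mem_irreducibleComponents T hT.1) hv
    have hvT' : v ∈ T' := closure_minimal (Set.singleton_subset_iff.2 hwT')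
      (isClosed_of_mem_irreducibleComponents T' hT'.1) hv
    apply hT'.2
    exact ⟨hT'.1, fun x hx hxc => htrans a v x hvc (hT.2 v hvT hvc) (hcomp T' hT'.1 v hvT' x hx hvc hxc)⟩

/-- Sections of a fibre covered by projective lines are related by every relation relating the points on lines. -/
theorem rel_of_cov {S Z : Scheme.{u}} {κ : Type u} [Field κ] [IsAlgClosed κ] {c : Spec (CommRingCat.of κ) ⟶ S}
    [IsClosedImmersion c] {z : Z ⟶ S} [IsProper z] (h : Cov c z)
    (R : (Spec (CommRingCat.of κ) ⟶ Z) → (Spec (CommRingCat.of κ) ⟶ Z) → Prop)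
    (htrans : ∀ u v w : Spec (CommRingCat.of κ) ⟶ Z, u ≫ z = c → v ≫ z = c → w ≫ z = c → R u v → R v w → R u w)
    (hrat : ∀ ψ : CohB1.ProjSpace 1 κ ⟶ Z, ψ ≫ z = CohB1.ProjSpace.toSpec 1 κ ≫ c →
      ∀ s t : Spec (CommRingCat.of κ) ⟶ CohB1.ProjSpace 1 κ, s ≫ CohB1.ProjSpace.toSpec 1 κ = 𝟙 _ →
        t ≫ CohB1.ProjSpace.toSpec 1 κ = 𝟙 _ → R (s ≫ ψ) (t ≫ ψ))
    (u v : Spec (CommRingCat.of κ) ⟶ Z) (hu : u ≫ z = c) (hv : v ≫ z = c) : R u v := by
  let V := pullback z c
  let i : V ⟶ Z := pullback.fst z c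
  let p : V ⟶ Spec (CommRingCat.of κ) := pullback.snd z c
  have hp : IsProper p := inferInstance
  have hi : IsClosedImmersion i := inferInstance
  have hir : Set.range i = z ⁻¹' Set.range c := Scheme.Pullback.range_fst z c
  have hVn : IsLocallyNoetherian V := LocallyOfFiniteType.isLocallyNoetherian p
  have hVc : CompactSpace V := QuasiCompact.compactSpace_of_compactSpace p
  have hVN : IsNoetherian V := { }
  have hJac : JacobsonSpace (CohB1.ProjSpace 1 κ) := LocallyOfFiniteType.jacobsonSpace (CohB1.ProjSpace.toSpec 1 κ)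
  have hint : IsIntegral (CohB1.ProjSpace 1 κ) := K711.ProjDim.isIntegral_projSpace 1 κ
  have hpt : ∀ (x : V), IsClosed ({x} : Set V) → ∃ s : Spec (CommRingCat.of κ) ⟶ V, s ≫ p = 𝟙 _ ∧
      s (IsLocalRing.closedPoint κ) = x := fun x hx =>
    ⟨pointOfClosedPoint p x hx, pointOfClosedPoint_comp p x hx, pointOfClosedPoint_apply p x hx _⟩
  have hclosed : ∀ s : Spec (CommRingCat.of κ) ⟶ V, s ≫ p = 𝟙 _ → IsClosed ({s (IsLocalRing.closedPoint κ)} : Set V) := by
    intro s hs
    have h1 : IsClosedImmersion s := by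
      have : IsClosedImmersion (s ≫ p) := by rw [hs]; infer_instance
      exact IsClosedImmersion.of_comp s p
    have h2 := s.isClosedEmbedding.isClosed_range
    have h3 : Set.range s = {s (IsLocalRing.closedPoint κ)} := by
      apply Set.Subset.antisymm
      · rintro _ ⟨a, rfl⟩
        rw [Subsingleton.elim a (IsLocalRing.closedPoint κ)]
        rfl
      · rintro _ rfl
        exact ⟨_, rfl⟩
    rwa [h3] at h2
  let RV : V → V → Prop := fun x y => ∀ s t : Spec (CommRingCat.of κ) ⟶ V, s ≫ p = 𝟙 _ → t ≫ p = 𝟙 _ →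
    s (IsLocalRing.closedPoint κ) = x → t (IsLocalRing.closedPoint κ) = y → R (s ≫ i) (t ≫ i)
  have hsi : ∀ s : Spec (CommRingCat.of κ) ⟶ V, s ≫ p = 𝟙 _ → (s ≫ i) ≫ z = c := by
    intro s hs
    rw [Category.assoc, pullback.condition, ← Category.assoc]
    exact (congrArg (· ≫ c) hs).trans (Category.id_comp c)
  have hpre : _root_.IsPreconnected (Set.univ : Set V) := by
    rw [← i.isEmbedding.isInducing.isPreconnected_image, Set.image_univ, hir]
    exact h.conn
  have key : ∀ x y : V, IsClosed ({x} : Set V) → IsClosed ({y} : Set V) → RV x y := by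
    refine chain hpre RV ?_ ?_
    · intro a b d hb h1 h2 s t hs ht hsa htd
      obtain ⟨w, hw, hwb⟩ := hpt b hb
      exact htrans _ (w ≫ i) _ (hsi s hs) (hsi w hw) (hsi t ht) (h1 s w hs hw hsa hwb) (h2 w t hw ht hwb htd)
    · intro x
      have hx : z (i x) ∈ Set.range c := by
        have h1 : i x ∈ Set.range i := ⟨x, rfl⟩
        rw [hir] at h1
        exact h1
      obtain ⟨ψ, hψ, t, ht⟩ := h.cov (i x) hx
      let ψ' : CohB1.ProjSpace 1 κ ⟶ V := pullback.lift ψ (CohB1.ProjSpace.toSpec 1 κ) hψ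
      have h1 : ψ' ≫ i = ψ := pullback.lift_fst _ _ _
      have h2 : ψ' ≫ p = CohB1.ProjSpace.toSpec 1 κ := pullback.lift_snd _ _ _
      have hψp : IsProper ψ' := by
        have : IsProper (ψ' ≫ p) := by rw [h2]; infer_instance
        exact IsProper.of_comp ψ' p
      refine ⟨Set.range ψ', ψ'.isClosedMap.isClosed_range, ⟨t, ?_⟩, ?_, ?_⟩
      · apply i.isEmbedding.injective
        rw [← ht, ← h1]
        rfl
      · rw [← Set.image_univ]
        exact (IrreducibleSpace.isIrreducible_univ _).image _ ψ'.continuous.continuousOn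
      · intro a ha b hb hac hbc
        have lift : ∀ a ∈ Set.range ψ', IsClosed ({a} : Set V) → ∃ s : Spec (CommRingCat.of κ) ⟶ CohB1.ProjSpace 1 κ,
            s ≫ CohB1.ProjSpace.toSpec 1 κ = 𝟙 _ ∧ (s ≫ ψ') (IsLocalRing.closedPoint κ) = a := by
          rintro a ⟨a', ha'⟩ hac
          obtain ⟨b', hb', hb''⟩ := nonempty_inter_closedPoints (Z := ψ' ⁻¹' {a}) ⟨a', ha'⟩
            (hac.preimage ψ'.continuous).isLocallyClosed
          refine ⟨pointOfClosedPoint (CohB1.ProjSpace.toSpec 1 κ) b' hb'', pointOfClosedPoint_comp _ b' hb'', ?_⟩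
          rw [Scheme.Hom.comp_apply, pointOfClosedPoint_apply]
          exact hb'
        obtain ⟨s', hs', hsa⟩ := lift a ha hac
        obtain ⟨t', ht', htb⟩ := lift b hb hbc
        intro s₁ t₁ hs₁ ht₁ hsa₁ htb₁
        have e1 : s₁ = s' ≫ ψ' := Groth.Agent.Sga7.H270.FinPts.section_ext p _ _ hs₁
          (by rw [Category.assoc, h2, hs']) (hsa₁.trans hsa.symm)
        have e2 : t₁ = t' ≫ ψ' := Groth.Agent.Sga7.H270.FinPts.section_ext p _ _ ht₁
          (by rw [Category.assoc, h2, ht']) (htb₁.trans htb.symm)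
        rw [e1, e2, Category.assoc, Category.assoc, h1]
        exact hrat ψ hψ s' t' hs' ht'
  let u' : Spec (CommRingCat.of κ) ⟶ V := pullback.lift u (𝟙 _) (by rw [hu, Category.id_comp])
  let v' : Spec (CommRingCat.of κ) ⟶ V := pullback.lift v (𝟙 _) (by rw [hv, Category.id_comp])
  have hu' : u' ≫ p = 𝟙 _ := pullback.lift_snd _ _ _
  have hv' : v' ≫ p = 𝟙 _ := pullback.lift_snd _ _ _
  have h1 := key _ _ (hclosed u' hu') (hclosed v' hv') u' v' hu' hv' rfl rfl
  have e1 : u' ≫ i = u := pullback.lift_fst _ _ _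
  have e2 : v' ≫ i = v := pullback.lift_fst _ _ _
  rwa [e1, e2] at h1

end K754.Chain
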