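import Groth.Agent.ZCorr.K754.LinkFam
import Mathlib.AlgebraicGeometry.Limits

/-!
# Operations on families of links: restriction to closed subsets, finite unions
-/

set_option autoImplicit false
universe u

open CategoryTheory CategoryTheory.Limits AlgebraicGeometry TopologicalSpace
open Groth.Agent K952.Basic K952.Pts

namespace K754.FamOps

open SymPt SymCnt SymRel SymFwd LinkSpec SymProj LinkFam K952 K952.P1Core

variable {k : Type u} [Field k]

section Glue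

variable {T₁ T₂ Y : Scheme.{u}} (τ₁ : T₁ ⟶ Spec (CommRingCat.of k)) (τ₂ : T₂ ⟶ Spec (CommRingCat.of k))

theorem isPullback_bcm {T T' : Scheme.{u}} (τ : T ⟶ Spec (CommRingCat.of k)) (v : T' ⟶ T)
    (τ' : T' ⟶ Spec (CommRingCat.of k)) (hv : v ≫ τ = τ') :
    IsPullback (bcm τ v τ' hv) (pullback.fst τ' (CohB1.ProjSpace.toSpec 1 k)) (pullback.fst τ (CohB1.ProjSpace.toSpec 1 k)) v := by
  refine IsPullback.of_right (h₁₂ := pullback.snd τ (CohB1.ProjSpace.toSpec 1 k)) (v₁₃ := CohB1.ProjSpace.toSpec 1 k)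
    (h₂₂ := τ) ?_ (bcm_fst τ v τ' hv) (IsPullback.of_hasPullback τ _).flip
  rw [bcm_snd, hv]
  exact (IsPullback.of_hasPullback τ' _).flip

/-- the trivial family over a disjoint union is a disjoint union -/
theorem isColimit_bcm : Nonempty (IsColimit (BinaryCofan.mk
    (bcm (coprod.desc τ₁ τ₂) coprod.inl τ₁ (coprod.inl_desc _ _))
    (bcm (coprod.desc τ₁ τ₂) coprod.inr τ₂ (coprod.inr_desc _ _)))) := by
  have h1 : IsVanKampenColimit (BinaryCofan.mk (coprod.inl : T₁ ⟶ T₁ ⨿ T₂) coprod.inr) :=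
    FinitaryExtensive.vanKampen _ (coprodIsCoprod T₁ T₂)
  rw [BinaryCofan.isVanKampen_iff] at h1
  have h2 := h1 (BinaryCofan.mk (bcm (coprod.desc τ₁ τ₂) coprod.inl τ₁ (coprod.inl_desc _ _))
    (bcm (coprod.desc τ₁ τ₂) coprod.inr τ₂ (coprod.inr_desc _ _)))
    (pullback.fst τ₁ (CohB1.ProjSpace.toSpec 1 k)) (pullback.fst τ₂ (CohB1.ProjSpace.toSpec 1 k))
    (pullback.fst (coprod.desc τ₁ τ₂) (CohB1.ProjSpace.toSpec 1 k))
    (bcm_fst (coprod.desc τ₁ τ₂) coprod.inl τ₁ (coprod.inl_desc _ _)).symm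
    (bcm_fst (coprod.desc τ₁ τ₂) coprod.inr τ₂ (coprod.inr_desc _ _)).symm
  exact h2.2 ⟨isPullback_bcm (coprod.desc τ₁ τ₂) coprod.inl τ₁ (coprod.inl_desc _ _),
    isPullback_bcm (coprod.desc τ₁ τ₂) coprod.inr τ₂ (coprod.inr_desc _ _)⟩

theorem exists_glue (h₁ : pullback τ₁ (CohB1.ProjSpace.toSpec 1 k) ⟶ Y)
    (h₂ : pullback τ₂ (CohB1.ProjSpace.toSpec 1 k) ⟶ Y) :
    ∃ h : pullback (coprod.desc τ₁ τ₂) (CohB1.ProjSpace.toSpec 1 k) ⟶ Y,
      bcm (coprod.desc τ₁ τ₂) coprod.inl τ₁ (coprod.inl_desc _ _) ≫ h = h₁ ∧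
      bcm (coprod.desc τ₁ τ₂) coprod.inr τ₂ (coprod.inr_desc _ _) ≫ h = h₂ := by
  obtain ⟨hc⟩ := isColimit_bcm τ₁ τ₂
  obtain ⟨h, e₁, e₂⟩ := BinaryCofan.IsColimit.desc' hc h₁ h₂
  exact ⟨h, e₁, e₂⟩

theorem glue_ext {h h' : pullback (coprod.desc τ₁ τ₂) (CohB1.ProjSpace.toSpec 1 k) ⟶ Y}
    (e₁ : bcm (coprod.desc τ₁ τ₂) coprod.inl τ₁ (coprod.inl_desc _ _) ≫ h =
      bcm (coprod.desc τ₁ τ₂) coprod.inl τ₁ (coprod.inl_desc _ _) ≫ h')
    (e₂ : bcm (coprod.desc τ₁ τ₂) coprod.inr τ₂ (coprod.inr_desc _ _) ≫ h =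
      bcm (coprod.desc τ₁ τ₂) coprod.inr τ₂ (coprod.inr_desc _ _) ≫ h') : h = h' := by
  obtain ⟨hc⟩ := isColimit_bcm τ₁ τ₂
  exact BinaryCofan.IsColimit.hom_ext hc e₁ e₂

/-- Points of a disjoint union. -/
theorem exists_point_coprod {K : Type u} [Field K] (t : Spec (CommRingCat.of K) ⟶ T₁ ⨿ T₂) :
    (∃ t₁ : Spec (CommRingCat.of K) ⟶ T₁, t₁ ≫ coprod.inl = t) ∨
      ∃ t₂ : Spec (CommRingCat.of K) ⟶ T₂, t₂ ≫ coprod.inr = t := by
  have hcompl : IsCompl (coprod.inl : T₁ ⟶ T₁ ⨿ T₂).opensRange (coprod.inr : T₂ ⟶ T₁ ⨿ T₂).opensRange :=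
    isCompl_opensRange_inl_inr T₁ T₂
  have h3 : t (IsLocalRing.closedPoint K) ∈ (coprod.inl : T₁ ⟶ T₁ ⨿ T₂).opensRange ⊔
      (coprod.inr : T₂ ⟶ T₁ ⨿ T₂).opensRange := by
    rw [hcompl.sup_eq_top]; trivial
  have hpt : ∀ y : Spec (CommRingCat.of K), y = IsLocalRing.closedPoint K := fun y =>
    Subsingleton.elim y (IsLocalRing.closedPoint K)
  rcases h3 with h3 | h3
  · left
    refine ⟨IsOpenImmersion.lift (coprod.inl : T₁ ⟶ T₁ ⨿ T₂) t ?_, IsOpenImmersion.lift_fac _ _ _⟩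
    rintro _ ⟨y, rfl⟩
    rw [hpt y]
    exact h3
  · right
    refine ⟨IsOpenImmersion.lift (coprod.inr : T₂ ⟶ T₁ ⨿ T₂) t ?_, IsOpenImmersion.lift_fac _ _ _⟩
    rintro _ ⟨y, rfl⟩
    rw [hpt y]
    exact h3

theorem isReduced_coprod [IsReduced T₁] [IsReduced T₂] : IsReduced (T₁ ⨿ T₂ : Scheme.{u}) := by
  have : ∀ i, IsReduced ((coprodOpenCover.{u, 0} T₁ T₂).X i) := by
    rintro (_ | _)
    · exact (inferInstance : IsReduced T₁)
    · exact (inferInstance : IsReduced T₂)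
  exact IsReduced.of_openCover _ (coprodOpenCover.{u, 0} T₁ T₂)

end Glue

variable {X : Scheme.{u}} {p : X ⟶ Spec (CommRingCat.of k)}
  {Sy : ℕ → Scheme.{u}} {qs : (n : ℕ) → (SymProd.fibPow p n ⟶ Sy n)}
  {gs : (n : ℕ) → (Sy n ⟶ Spec (CommRingCat.of k))} {d m : ℕ}

/-- Finite unions of families. -/
theorem exists_union (F₁ F₂ : Fam p Sy qs gs d m) : ∃ F : Fam p Sy qs gs d m, F.pts = F₁.pts ∪ F₂.pts := by
  obtain ⟨h, e₁, e₂⟩ := exists_glue F₁.τ F₂.τ F₁.h F₂.h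
  have hr₁ := F₁.red
  have hr₂ := F₂.red
  refine ⟨⟨F₁.T ⨿ F₂.T, coprod.desc F₁.τ F₂.τ, coprod.desc F₁.b F₂.b, h, isReduced_coprod,
    K642.HQProj.isHQuasiProjective_coprod F₁.qproj F₂.qproj, ?_, ?_, ?_, ?_⟩, ?_⟩
  · apply coprod.hom_ext
    · rw [coprod.inl_desc_assoc, coprod.inl_desc, F₁.hb]
    · rw [coprod.inr_desc_assoc, coprod.inr_desc, F₂.hb]
  · apply glue_ext
    · rw [← Category.assoc, e₁, F₁.hh, bcm_fst_assoc, coprod.inl_desc]
    · rw [← Category.assoc, e₂, F₂.hh, bcm_fst_assoc, coprod.inr_desc]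
  · apply coprod.hom_ext
    · rw [← Category.assoc, ← sec_bcm (coprod.desc F₁.τ F₂.τ) _ _ coprod.inl F₁.τ (coprod.inl_desc _ _), Category.assoc,
        e₁, F₁.e₀, coprod.inl_desc_assoc]
    · rw [← Category.assoc, ← sec_bcm (coprod.desc F₁.τ F₂.τ) _ _ coprod.inr F₂.τ (coprod.inr_desc _ _), Category.assoc,
        e₂, F₂.e₀, coprod.inr_desc_assoc]
  · apply coprod.hom_ext
    · rw [← Category.assoc, ← sec_bcm (coprod.desc F₁.τ F₂.τ) _ _ coprod.inl F₁.τ (coprod.inl_desc _ _), Category.assoc,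
        e₁, F₁.e₁, coprod.inl_desc_assoc]
    · rw [← Category.assoc, ← sec_bcm (coprod.desc F₁.τ F₂.τ) _ _ coprod.inr F₂.τ (coprod.inr_desc _ _), Category.assoc,
        e₂, F₂.e₁, coprod.inr_desc_assoc]
  · ext b₀
    constructor
    · rintro ⟨t, ht, htb⟩
      change t ≫ coprod.desc F₁.τ F₂.τ = _ at ht
      change t ≫ coprod.desc F₁.b F₂.b = _ at htb
      rcases exists_point_coprod t with ⟨t₁, rfl⟩ | ⟨t₁, rfl⟩
      · left
        refine ⟨t₁, ?_, ?_⟩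
        · rwa [Category.assoc, coprod.inl_desc] at ht
        · rwa [Category.assoc, coprod.inl_desc] at htb
      · right
        refine ⟨t₁, ?_, ?_⟩
        · rwa [Category.assoc, coprod.inr_desc] at ht
        · rwa [Category.assoc, coprod.inr_desc] at htb
    · rintro (⟨t, ht, htb⟩ | ⟨t, ht, htb⟩)
      · refine ⟨t ≫ coprod.inl, ?_, ?_⟩
        · change (t ≫ coprod.inl) ≫ coprod.desc F₁.τ F₂.τ = _
          rw [Category.assoc, coprod.inl_desc, ht]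
        · change (t ≫ coprod.inl) ≫ coprod.desc F₁.b F₂.b = _
          rw [Category.assoc, coprod.inl_desc, htb]
      · refine ⟨t ≫ coprod.inr, ?_, ?_⟩
        · change (t ≫ coprod.inr) ≫ coprod.desc F₁.τ F₂.τ = _
          rw [Category.assoc, coprod.inr_desc, ht]
        · change (t ≫ coprod.inr) ≫ coprod.desc F₁.b F₂.b = _
          rw [Category.assoc, coprod.inr_desc, htb]

/-- Pullback of families along closed immersions. -/
theorem exists_closed (F : Fam p Sy qs gs d m) {T' : Scheme.{u}} [IsReduced T'] (v : T' ⟶ F.T) [IsClosedImmersion v] :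
    ∃ F' : Fam p Sy qs gs d m, F'.pts = {b₀ | ∃ t : Spec (CommRingCat.of k) ⟶ T', t ≫ v ≫ F.τ = 𝟙 _ ∧ t ≫ v ≫ F.b = b₀} := by
  refine ⟨⟨T', v ≫ F.τ, v ≫ F.b, bcm F.τ v _ rfl ≫ F.h, inferInstance, ?_, ?_, ?_, ?_, ?_⟩, rfl⟩
  · obtain ⟨n, i, hi, hc, hif⟩ := F.qproj
    exact ⟨n, v ≫ i, inferInstance, inferInstance, by rw [Category.assoc, hif]⟩
  · rw [Category.assoc, F.hb]
  · rw [Category.assoc, F.hh, bcm_fst_assoc]
  · rw [sec_bcm_assoc, F.e₀, Category.assoc]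
  · rw [sec_bcm_assoc, F.e₁, Category.assoc]

/-- Restriction of families to closed subsets. -/
theorem exists_restrict [IsAlgClosed k] (F : Fam p Sy qs gs d m) (C : Set ↥(SymProd.fibPow p (d + d + m))) (hC : IsClosed C) :
    ∃ F' : Fam p Sy qs gs d m, F'.pts = F.pts ∩ {b₀ | b₀ (IsLocalRing.closedPoint k) ∈ C} := by
  obtain ⟨T', v, hv, hr, hvr⟩ := exists_reduced_closed (F.b ⁻¹' C) (hC.preimage F.b.continuous)
  obtain ⟨F', hF'⟩ := exists_closed F v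
  refine ⟨F', ?_⟩
  rw [hF']
  have hred : IsReduced (Spec (CommRingCat.of k)) := inferInstance
  ext b₀
  constructor
  · rintro ⟨t, ht, rfl⟩
    refine ⟨⟨t ≫ v, by rw [Category.assoc, ht], by rw [Category.assoc]⟩, ?_⟩
    change (t ≫ v ≫ F.b) (IsLocalRing.closedPoint k) ∈ C
    rw [Scheme.Hom.comp_apply, Scheme.Hom.comp_apply]
    have : v (t (IsLocalRing.closedPoint k)) ∈ Set.range v := ⟨_, rfl⟩
    rw [hvr] at this
    exact this
  · rintro ⟨⟨t, ht, rfl⟩, hb⟩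
    have hpt : t (IsLocalRing.closedPoint k) ∈ Set.range v := by
      rw [hvr]
      exact hb
    obtain ⟨x, hx⟩ := hpt
    have : Nonempty ↥(pullback v t) := by
      obtain ⟨z, -⟩ := Scheme.Pullback.exists_preimage_pullback (f := v) (g := t) x (IsLocalRing.closedPoint k) hx
      exact ⟨z⟩
    obtain ⟨s, hs⟩ := K952.LiftPt.exists_section (pullback.snd v t)
    have h1 : (s ≫ pullback.fst v t) ≫ v = t := by
      rw [Category.assoc, pullback.condition, ← Category.assoc, hs, Category.id_comp]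
    refine ⟨s ≫ pullback.fst v t, ?_, ?_⟩
    · rw [← Category.assoc, h1, ht]
    · rw [← Category.assoc, h1]

/-- Finite unions. -/
theorem exists_finset_union [IsAlgClosed k] {ι : Type*} (F : ι → Fam p Sy qs gs d m) (F₀ : Fam p Sy qs gs d m) (s : Finset ι) :
    ∃ F' : Fam p Sy qs gs d m, F'.pts = ⋃ i ∈ s, (F i).pts := by
  classical
  induction s using Finset.induction with
  | empty =>
    obtain ⟨F', hF'⟩ := exists_restrict F₀ ∅ isClosed_empty
    refine ⟨F', ?_⟩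
    rw [hF']
    simp
  | insert a s _ ih =>
    obtain ⟨F', hF'⟩ := ih
    obtain ⟨F'', hF''⟩ := exists_union (F a) F'
    refine ⟨F'', ?_⟩
    rw [hF'', hF', Finset.set_biUnion_insert]

end K754.FamOps
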