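import Groth.Agent.Fga.HilbAsm2
import Groth.Agent.Fga.RepQMain
import Groth.Prelude.Def_RelProj

/-!
# The Hilbert scheme is a countable disjoint union of projective schemes
-/

set_option autoImplicit false
universe u

open CategoryTheory CategoryTheory.Limits AlgebraicGeometry Opposite CohB1

namespace K754.HilbCount

open Groth.Agent.Fga Groth.Agent.Picfga.OverRep NoethRep HilbFun QA0 QA1 HilbAsm1 HilbClosed QH HilbAsm2

/-- There are countably many numerical functions. -/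
theorem countable_num (c : ℕ) : Countable {Φ : ℤ → ℤ // Num c Φ} := by
  induction c with
  | zero =>
    have : Subsingleton {Φ : ℤ → ℤ // Num 0 Φ} := ⟨fun a b => Subtype.ext (funext fun d => (a.2 d).trans (b.2 d).symm)⟩
    infer_instance
  | succ c ih =>
    let F : {Φ : ℤ → ℤ // Num (c + 1) Φ} → {Φ : ℤ → ℤ // Num c Φ} × ℤ := fun Φ => (⟨nab Φ.1, Φ.2⟩, Φ.1 0)
    have hF : Function.Injective F := by
      rintro ⟨Φ, hΦ⟩ ⟨Ψ, hΨ⟩ h
      apply Subtype.ext
      have h1 : nab Φ = nab Ψ := congrArg (fun z => z.1.1) h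
      have h2 : Φ 0 = Ψ 0 := congrArg (fun z => z.2) h
      have h3 : ∀ d, nab (fun d => Φ d - Ψ d) d = 0 := by
        intro d
        have h4 := congrFun h1 d
        simp only [nab] at h4 ⊢
        linarith
      funext d
      have h5 := eq_const_of_nab h3 d 0
      have h6 : Φ d - Ψ d = Φ 0 - Ψ 0 := h5
      linarith
    exact hF.countable

variable {n : ℕ} {S X : Scheme.{u}}

/-- **The Hilbert scheme of a closed subscheme of projective space**, with a countable index set. -/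
theorem hilbert_scheme [IsLocallyNoetherian S] (i : X ⟶ ProjSpaceOver n S) [IsClosedImmersion i] :
    ∃ (H : Over S) (Z : FGA.HilbSet (i ≫ ProjSpaceOver.toBase n S) H),
      FGA.HilbRepresentedBy (i ≫ ProjSpaceOver.toBase n S) H Z ∧
      ∃ (ι : Type u) (_ : Countable ι) (P : ι → Over S) (e : ∀ a, P a ⟶ H),
        (∀ a, IsOpenImmersion (e a).left ∧ RelProj.IsHProjective (P a).hom) ∧ ∀ x : H.left, ∃ a, x ∈ Set.range (e a).left := by
  have hrep : ∀ Φ : ℤ → ℤ, Num (n + 1) Φ → ∃ (P : Scheme.{u}) (_ : RepQ (Fin (n + 1)) Unit Φ P) (N : ℕ)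
      (c : P ⟶ ProjSpace N (ULift.{u} ℤ)), IsClosedImmersion c := fun Φ hΦ =>
    Groth.Agent.Fga.RepQMain.exists_repQ (Fin (n + 1)) Unit Φ (by rwa [Fintype.card_fin])
  let J : Type u := ULift.{u} {Φ : ℤ → ℤ // Num (n + 1) Φ}
  have hJ : Countable J := by
    have := countable_num (n + 1)
    exact Equiv.ulift.countable_iff.2 this
  have key : ∀ a : J, ∃ (N : ℕ) (H : Over S) (ξ : (hilbX i a.down.1).obj (op H))
      (c' : H.left ⟶ ProjSpaceOver N S),
      NRep (hilbX i a.down.1) H ξ ∧ IsClosedImmersion c' ∧ c' ≫ ProjSpaceOver.toBase N S = H.hom := by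
    intro a
    obtain ⟨P, r, N, c, hc⟩ := hrep a.down.1 a.down.2
    exact ⟨N, exists_nrep_X i a.down.2 r c⟩
  choose N H ξ c hξ hc hc' using key
  obtain ⟨ζ, hζ⟩ := NoethCov.exists_nrep_fib (G := hilb (fX i)) (fun a : J => QX i a.down.1)
    (isZarSheaf_hilb _) (by
      rintro ⟨Φ, hΦ⟩ ⟨Ψ, hΨ⟩ K _ s x ⟨D, hD⟩ ⟨D', hD'⟩
      dsimp only at hD hD'
      have : Φ = Ψ := by
        apply hΦ.eq_of_eventually hΨ
        refine ⟨((max D D' : ℕ) : ℤ), fun e he => ?_⟩
        obtain ⟨e', rfl⟩ : ∃ e' : ℕ, e = e' := ⟨e.toNat, by omega⟩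
        rw [← hD e' (by omega), ← hD' e' (by omega)]
      subst this
      rfl)
    (by
      intro A _ s x p
      obtain ⟨Φ, hΦ, f, hf, h1⟩ := QHAlg.cov (KX_isQuotPt i s x) p
      rw [Fintype.card_fin] at hΦ
      refine ⟨⟨⟨Φ, hΦ⟩⟩, f, hf, fun K _ φ s' g hg hφ => ?_⟩
      obtain ⟨D, hD⟩ := h1 K φ hφ
      refine ⟨D, fun d hd => ?_⟩
      rw [KX_map i φ s s' g hg]
      exact hD d hd)
    H ξ hξ
  have h1 : ∀ a, Sigma.ι (fun a => (H a).left) a ≫ (coprodOver H).hom = (H a).hom := fun a =>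
    Sigma.ι_desc (fun a => (H a).hom) a
  refine ⟨coprodOver H, ζ, ?_, J, hJ, H, fun a => Over.homMk (Sigma.ι (fun a => (H a).left) a) (h1 a), ?_, ?_⟩
  · exact (hilbRepresentedBy_iff (fX i) (coprodOver H) ζ).2 ⟨hζ.noeth, fun T _ x => hζ.univ T x⟩
  · intro a
    refine ⟨?_, N a, c a, hc a, hc' a⟩
    exact inferInstanceAs (IsOpenImmersion (Sigma.ι (fun a => (H a).left) a))
  · intro x
    obtain ⟨a, y, hy⟩ := (sigmaOpenCover (fun a => (H a).left)).exists_eq x
    exact ⟨a, y, hy⟩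

end K754.HilbCount
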