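import Groth.Agent.ZCorr.K754.HilbCount
import Groth.Agent.S17087
import Groth.Agent.S9692
import Groth.Agent.S9693

/-!
# Morphisms between projective schemes over a field occur in countably many quasi-projective families
-/

set_option autoImplicit false
universe u

open CategoryTheory CategoryTheory.Limits AlgebraicGeometry

namespace K754.MorFam

open Groth.Agent Groth.Agent.S17087 Groth.Agent.Fga.HilbClosed Groth.Agent.Fga.RelCart

section Graph

variable {X Y S : Scheme.{u}} (gX : X ⟶ S) (gY : Y ⟶ S)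

/-- the base change of a morphism of parameter schemes -/
noncomputable def bm {T T' : Over S} (φ : T' ⟶ T) : pullback T'.hom gX ⟶ pullback T.hom gX :=
  ((Over.pullback gX).map φ).left

/-- The graph of the base change of a morphism is the base change of the graph. -/
theorem isPullback_Γ {T T' : Over S} (φ : T' ⟶ T) (a : (Flatn.morS gX gY).obj (Opposite.op T)) :
    IsPullback (bm gX φ) (Γ gX gY T' ((Flatn.morS gX gY).map φ.op a)) (Γ gX gY T a)
      (PicF.XTmap (pullback.fst gX gY ≫ gX) φ) := by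
  have h1 : IsPullback (PicF.XTmap (pullback.fst gX gY ≫ gX) φ) (r gX gY T') (r gX gY T) (bm gX φ) :=
    (isPullback_XTmap_r gX gY φ).1
  have h0 : IsPullback (bm gX φ) (𝟙 (pullback T'.hom gX)) (𝟙 (pullback T.hom gX)) (bm gX φ) :=
    IsPullback.of_vert_isIso ⟨by simp⟩
  have hr' := Γ_r gX gY T' ((Flatn.morS gX gY).map φ.op a)
  have hr := Γ_r gX gY T a
  refine IsPullback.of_bot (h₃₁ := bm gX φ) (v₂₁ := r gX gY T') (v₂₂ := r gX gY T) ?_ ?_ h1
  · rw [hr, hr']
    exact h0
  · apply Γ_ext
    · rw [Category.assoc, Category.assoc, h1.w, hr, reassoc_of% hr', Category.comp_id]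
    · have h3 : PicF.XTmap (pullback.fst gX gY ≫ gX) φ ≫
          pullback.fst (pullback.fst gX gY ≫ gX) T.hom =
          pullback.fst (pullback.fst gX gY ≫ gX) T'.hom := FGA.XTmap_fst _ φ
      rw [Category.assoc, Category.assoc, Γ_y]
      rw [← Category.assoc (PicF.XTmap _ φ), h3, Γ_y]
      rfl

theorem hilbPull_Γ [IsSeparated gY] {T T' : Over S} (φ : T' ⟶ T) (a : (Flatn.morS gX gY).obj (Opposite.op T)) :
    FGA.hilbPull (pullback.fst gX gY ≫ gX) φ (Γ gX gY T a).ker =
      (Γ gX gY T' ((Flatn.morS gX gY).map φ.op a)).ker := by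
  have hc := isClosedImmersion_Γ gX gY T a
  have h1 := isPullback_Γ gX gY φ a
  rw [Groth.Agent.Fga.RelCart.hilbPull_eq_comap, ← Scheme.IdealSheafData.ker_fst_of_isClosedImmersion]
  have h2 : Γ gX gY T' ((Flatn.morS gX gY).map φ.op a) = h1.flip.isoPullback.hom ≫ pullback.fst _ _ :=
    h1.flip.isoPullback_hom_fst.symm
  rw [h2, Scheme.Hom.ker_comp_of_isIso]

end Graph

variable {k : Type u} [Field k] {X Y : Scheme.{u}} (gX : X ⟶ Spec (CommRingCat.of k)) (gY : Y ⟶ Spec (CommRingCat.of k))

theorem isProper_of_isHProjective {X Y : Scheme.{u}} {f : X ⟶ Y} (h : RelProj.IsHProjective f) : IsProper f := by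
  obtain ⟨n, i, hi, hif⟩ := h
  rw [← hif]
  infer_instance

theorem isHProjective_prod (hX : RelProj.IsHProjective gX) (hY : RelProj.IsHProjective gY) :
    RelProj.IsHProjective (pullback.fst gX gY ≫ gX) := by
  rw [pullback.condition]
  exact S9692.result _ _ (S9693.result gX hX gY) hY

/-- The structure morphism of an open subscheme of an H-projective scheme. -/
theorem isHQuasiProjective_of_immersion {T P S : Scheme.{u}} (j : T ⟶ P) [IsImmersion j] [QuasiCompact j] {p : P ⟶ S}
    (hp : RelProj.IsHProjective p) : RelProj.IsHQuasiProjective (j ≫ p) := by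
  obtain ⟨n, i, hi, hip⟩ := hp
  refine ⟨n, j ≫ i, inferInstance, inferInstance, by rw [Category.assoc, hip]⟩

/-- **Countably many quasi-projective families of morphisms containing all morphisms** between two projective
schemes over a field. -/
theorem exists_families (hX : RelProj.IsHProjective gX) (hY : RelProj.IsHProjective gY) :
    ∃ (ι : Type u) (_ : Countable ι) (T : ι → Scheme.{u}) (τ : ∀ i, T i ⟶ Spec (CommRingCat.of k))
      (h : ∀ i, pullback (τ i) gX ⟶ Y),
      (∀ i, ∃ (P : Scheme.{u}) (p : P ⟶ Spec (CommRingCat.of k)) (j : T i ⟶ P), RelProj.IsHProjective p ∧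
        IsImmersion j ∧ QuasiCompact j ∧ j ≫ p = τ i) ∧
      (∀ i, h i ≫ gY = pullback.fst (τ i) gX ≫ τ i) ∧
      ∀ a : X ⟶ Y, a ≫ gY = gX → ∃ (i : ι) (t : Spec (CommRingCat.of k) ⟶ T i) (ht : t ≫ τ i = 𝟙 _),
        pullback.lift (gX ≫ t) (𝟙 X) (by rw [Category.assoc, ht, Category.id_comp, Category.comp_id]) ≫ h i = a := by
  have hXp := isProper_of_isHProjective hX
  have hYp := isProper_of_isHProjective hY
  have hXf : Flat gX := inferInstance
  obtain ⟨n, i, hi, hif⟩ := isHProjective_prod gX gY hX hY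
  have hH := HilbCount.hilbert_scheme i
  rw [hif] at hH
  obtain ⟨H, Z, hHZ, ι, hι, P, e, he, hcov⟩ := hH
  obtain ⟨H₀, hH₀⟩ := S17087.result gX gY H Z hHZ
  have heo : ∀ a, IsOpenImmersion (e a).left := fun a => (he a).1
  let U : ∀ a, (P a).left.Opens := fun a => (e a).left ⁻¹ᵁ H₀
  let T : ι → Over (Spec (CommRingCat.of k)) := fun a => Over.mk ((U a).ι ≫ (P a).hom)
  let j : ∀ a, T a ⟶ P a := fun a => Over.homMk (U a).ι rfl
  have hPft : ∀ a, LocallyOfFiniteType (P a).hom := fun a => by
    have := isProper_of_isHProjective (he a).2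
    infer_instance
  have hPn : ∀ a, IsLocallyNoetherian (P a).left := fun a =>
    LocallyOfFiniteType.isLocallyNoetherian (P a).hom
  have hTn : ∀ a, IsLocallyNoetherian (T a).left := fun a =>
    inferInstanceAs (IsLocallyNoetherian (U a : Scheme.{u}))
  have hran : ∀ a, Set.range (j a ≫ e a).left ⊆ (H₀ : Set H.left) := by
    rintro a _ ⟨x, rfl⟩
    exact x.2
  have key : ∀ a, ∃ h : (Flatn.morS gX gY).obj (Opposite.op (T a)),
      FGA.hilbPull (pullback.fst gX gY ≫ gX) (j a ≫ e a) Z.1 = (Γ gX gY (T a) h).ker := fun a =>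
    ((hH₀ (T a)).2 (j a ≫ e a) (hran a)).exists
  choose h hh using key
  refine ⟨ι, hι, fun a => (T a).left, fun a => (T a).hom, fun a => (h a).left, fun a => ?_, fun a => ?_, fun a ha => ?_⟩
  · refine ⟨(P a).left, (P a).hom, (U a).ι, (he a).2, inferInstance, ?_, rfl⟩
    infer_instance
  · exact (Over.w (h a)).trans pullback.condition.symm
  · let T₀ : Over (Spec (CommRingCat.of k)) := Over.mk (𝟙 _)
    have hT₀ : IsLocallyNoetherian T₀.left := inferInstanceAs (IsLocallyNoetherian (Spec (CommRingCat.of k)))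
    let a' : (Flatn.morS gX gY).obj (Opposite.op T₀) :=
      (Over.homMk (pullback.snd (𝟙 _) gX ≫ a) (by
        change (pullback.snd (𝟙 _) gX ≫ a) ≫ gY = pullback.snd (𝟙 _) gX ≫ gX
        rw [Category.assoc, ha]) : (Over.map gX).obj ((Over.pullback gX).obj T₀) ⟶ Over.mk gY)
    obtain ⟨g, ⟨hg1, hg2⟩, -⟩ := (hH₀ T₀).1 a'
    obtain ⟨b, hb⟩ := hcov (g.left (IsLocalRing.closedPoint k))
    have hpt : ∀ y : T₀.left, y = IsLocalRing.closedPoint k := fun y =>
      Subsingleton.elim (α := Spec (CommRingCat.of k)) y (IsLocalRing.closedPoint k)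
    have hsub : Set.range g.left ⊆ Set.range (e b).left := by
      rintro _ ⟨y, rfl⟩
      rw [hpt y]
      exact hb
    let t₁ : Spec (CommRingCat.of k) ⟶ (P b).left := IsOpenImmersion.lift (e b).left g.left hsub
    have ht₁ : t₁ ≫ (e b).left = g.left := IsOpenImmersion.lift_fac _ _ _
    have hsub₂ : Set.range t₁ ⊆ Set.range (U b).ι := by
      rintro _ ⟨y, rfl⟩
      rw [Scheme.Opens.range_ι]
      change (e b).left (t₁ y) ∈ H₀
      rw [← Scheme.Hom.comp_apply, ht₁]
      exact hg1 ⟨y, rfl⟩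
    let t : Spec (CommRingCat.of k) ⟶ (U b : Scheme.{u}) := IsOpenImmersion.lift (U b).ι t₁ hsub₂
    have ht : t ≫ (U b).ι = t₁ := IsOpenImmersion.lift_fac _ _ _
    have ht0 : t ≫ (T b).hom = 𝟙 _ := by
      change t ≫ (U b).ι ≫ (P b).hom = 𝟙 _
      rw [← Category.assoc, ht, ← Over.w (e b), ← Category.assoc, ht₁]
      exact Over.w g
    let φ : T₀ ⟶ T b := Over.homMk t ht0
    have hφ : φ ≫ j b ≫ e b = g := by
      apply Over.OverMorphism.ext
      change t ≫ (U b).ι ≫ (e b).left = g.left
      rw [← Category.assoc, ht, ht₁]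
    have h1 : (Flatn.morS gX gY).map φ.op (h b) = a' := by
      refine ((hH₀ T₀).2 g hg1).unique ?_ hg2
      change FGA.hilbPull (pullback.fst gX gY ≫ gX) g Z.1 = (Γ gX gY T₀ ((Flatn.morS gX gY).map φ.op (h b))).ker
      rw [← hilbPull_Γ, ← hh b, ← Groth.Agent.Fga.HilbClosed.hilbPull_comp, hφ]
    have h2 : bm gX φ ≫ (h b).left = pullback.snd (𝟙 _) gX ≫ a := congrArg Over.Hom.left h1
    have h3 : pullback.lift (gX ≫ t) (𝟙 X) (by rw [Category.assoc, ht0, Category.id_comp, Category.comp_id]) =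
        pullback.lift gX (𝟙 X) (by rw [Category.id_comp]; exact Category.comp_id gX) ≫ bm gX φ := by
      apply pullback.hom_ext
      · have e1 : bm gX φ ≫ pullback.fst (T b).hom gX = pullback.fst T₀.hom gX ≫ t := pullback.lift_fst _ _ _
        rw [pullback.lift_fst, Category.assoc, e1, ← Category.assoc]
        congr 1
        exact (pullback.lift_fst _ _ _).symm
      · have e1 : bm gX φ ≫ pullback.snd (T b).hom gX = pullback.snd T₀.hom gX := pullback.lift_snd _ _ _
        rw [pullback.lift_snd, Category.assoc, e1]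
        exact (pullback.lift_snd _ _ _).symm
    refine ⟨b, t, ht0, ?_⟩
    rw [h3, Category.assoc, h2, ← Category.assoc]
    refine (congrArg (· ≫ a) (pullback.lift_snd _ _ _)).trans (Category.id_comp a)

end K754.MorFam
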