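import Groth.Agent.ZCorr.K754.SymFwd
import Groth.Agent.S13179
import Groth.Agent.S4420
import Groth.Agent.S9717
import Groth.Agent.S9692
import Groth.Agent.S9693
import Groth.Agent.AlgSp.K642.HQProj
import Groth.Agent.ZeroCyc.K755.SymMain

/-!
# Projectivity of fibre powers and symmetric products over a field
-/

set_option autoImplicit false
universe u

open CategoryTheory CategoryTheory.Limits AlgebraicGeometry TopologicalSpace
open Groth.Agent

namespace K754.SymProj

variable {k : Type u} [Field k] {X : Scheme.{u}} (p : X ⟶ Spec (CommRingCat.of k))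

theorem isHProjective_of_closedImmersion {g : X ⟶ Spec (CommRingCat.of k)} (n : ℕ)
    (i : X ⟶ CohB1.ProjSpace n k) [IsClosedImmersion i] (hi : i ≫ CohB1.ProjSpace.toSpec n k = g) :
    RelProj.IsHProjective g := by
  refine ⟨n, i ≫ (CohqB.ProjBC.projSpaceOverIso n k).inv, inferInstance, ?_⟩
  rw [Category.assoc, CohqB.ProjBC.projSpaceOverIso_inv_toBase, hi]

theorem isHProjective_toSpec (n : ℕ) : RelProj.IsHProjective (CohB1.ProjSpace.toSpec n k) :=
  isHProjective_of_closedImmersion n (𝟙 _) (Category.id_comp _)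

theorem isHProjective_of_isIso (g : X ⟶ Spec (CommRingCat.of k)) [IsIso g] : RelProj.IsHProjective g := by
  have : IsClosedImmersion (K952.P1Core.tp k 0) := by
    have : IsClosedImmersion (K952.P1Core.tp k 0 ≫ CohB1.ProjSpace.toSpec 1 k) := by
      rw [K952.P1Core.tp_toSpec]; infer_instance
    exact IsClosedImmersion.of_comp _ (CohB1.ProjSpace.toSpec 1 k)
  refine isHProjective_of_closedImmersion 1 (g ≫ K952.P1Core.tp k 0) ?_
  rw [Category.assoc, K952.P1Core.tp_toSpec, Category.comp_id]

theorem isHProjective_iso_comp {X Y S : Scheme.{u}} (e : X ⟶ Y) [IsIso e] {f : Y ⟶ S} (hf : RelProj.IsHProjective f) :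
    RelProj.IsHProjective (e ≫ f) := by
  obtain ⟨n, i, hi, hif⟩ := hf
  exact ⟨n, e ≫ i, inferInstance, by rw [Category.assoc, hif]⟩

theorem isHProjective_fibPow (hX : RelProj.IsHProjective p) (n : ℕ) :
    RelProj.IsHProjective (WidePullback.base (fun _ : Fin n => p)) := by
  induction n with
  | zero => exact isHProjective_of_isIso _
  | succ n ih =>
    rw [← K952.FibPow.succHom_fst_base]
    refine isHProjective_iso_comp _ ?_
    rw [pullback.condition]
    exact S9692.result _ _ (S9693.result _ ih p) hX

theorem isHProjective_sym (hX : RelProj.IsHProjective p) {n : ℕ} {Sy : Scheme.{u}} {q : SymProd.fibPow p n ⟶ Sy}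
    {g : Sy ⟶ Spec (CommRingCat.of k)} (hS : SymProd.IsSymProd p n q g) : RelProj.IsHProjective g := by
  obtain ⟨Y, q', h, hq', hquot, hproj⟩ := S13179.result (WidePullback.base (fun _ : Fin n => p)) (SymProd.permActU p n)
    (fun σ => by rw [SymProd.permActU_hom, SymProd.permHom_base]) (S9717.result _ (isHProjective_fibPow p hX n))
  have h1 : RelProj.IsHProjective h :=
    (S4420.result (K642.HQProj.exists_isAmple_of_isAffine _) h).mp hproj
  obtain ⟨m, hm, -⟩ := S2925.result (SymProd.permActU p n) q hS.isQuot Y q' hquot.inv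
  have hiso : IsIso m := K755.SymMain.isIso_of_isQuot hS.isQuot hquot m hm
  have h2 : m ≫ h = g := by
    refine (S2925.result (SymProd.permActU p n) q hS.isQuot _ (q ≫ g) (fun σ => ?_)).unique ?_ rfl
    · rw [← Category.assoc, hS.isQuot.inv σ]
    · rw [← Category.assoc, hm, hq', hS.over]
  rw [← h2]
  exact isHProjective_iso_comp m h1

end K754.SymProj
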