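import Groth.Agent.ZCorr.K754.LinkSpec
import Groth.Agent.ZCorr.K754.SymProj
import Groth.Agent.ZCorr.K754.MorFam
import Groth.Agent.Ega1.ReducedSub

/-!
# Countably many quasi-projective families of links between points of fibre powers
-/

set_option autoImplicit false
universe u

open CategoryTheory CategoryTheory.Limits AlgebraicGeometry TopologicalSpace
open Groth.Agent K952.Basic K952.Pts

namespace K754.LinkFam

open SymPt SymCnt SymRel SymFwd LinkSpec SymProj K952 K952.P1Core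

/-- Reduced closed subschemes. -/
theorem exists_reduced_closed {X : Scheme.{u}} (C : Set X) (hC : IsClosed C) :
    ∃ (W : Scheme.{u}) (j : W ⟶ X), IsClosedImmersion j ∧ IsReduced W ∧ Set.range j = C := by
  refine ⟨(Scheme.IdealSheafData.vanishingIdeal ⟨C, hC⟩).subscheme,
    (Scheme.IdealSheafData.vanishingIdeal ⟨C, hC⟩).subschemeι, inferInstance,
    Groth.Agent.Ega1.ReducedSub.isReduced_subscheme_vanishingIdeal _, ?_⟩
  rw [Scheme.IdealSheafData.range_subschemeι]
  exact Scheme.IdealSheafData.coe_support_vanishingIdeal _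

/-- The closed locus where two morphisms to a separated scheme coincide. -/
theorem exists_eqLocus {W Y S : Scheme.{u}} (gY : Y ⟶ S) [IsSeparated gY] (f g : W ⟶ Y) (h : f ≫ gY = g ≫ gY) :
    ∃ (E : Scheme.{u}) (e : E ⟶ W), IsClosedImmersion e ∧ e ≫ f = e ≫ g ∧
      ∀ (V : Scheme.{u}) (v : V ⟶ W), v ≫ f = v ≫ g → ∃ v' : V ⟶ E, v' ≫ e = v := by
  let l : W ⟶ pullback gY gY := pullback.lift f g h
  have hl1 : l ≫ pullback.fst gY gY = f := pullback.lift_fst _ _ _
  have hl2 : l ≫ pullback.snd gY gY = g := pullback.lift_snd _ _ _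
  let D : Y ⟶ pullback gY gY := pullback.diagonal gY
  have hD1 : D ≫ pullback.fst gY gY = 𝟙 _ := pullback.diagonal_fst _
  have hD2 : D ≫ pullback.snd gY gY = 𝟙 _ := pullback.diagonal_snd _
  have hD : IsClosedImmersion D := IsSeparated.isClosedImmersion_diagonal
  have hc : pullback.fst l D ≫ l = pullback.snd l D ≫ D := pullback.condition
  refine ⟨pullback l D, pullback.fst _ _, inferInstance, ?_, ?_⟩
  · rw [← hl1, ← hl2, ← Category.assoc, ← Category.assoc, hc, Category.assoc, Category.assoc, hD1, hD2]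
  · intro V v hv
    refine ⟨pullback.lift v (v ≫ f) ?_, pullback.lift_fst _ _ _⟩
    apply pullback.hom_ext
    · rw [Category.assoc, hl1, Category.assoc, hD1, Category.comp_id]
    · rw [Category.assoc, hl2, Category.assoc, hD2, Category.comp_id, hv]

variable {k : Type u} [Field k] {X : Scheme.{u}} (p : X ⟶ Spec (CommRingCat.of k))

/-- Families of links. -/
structure Fam (Sy : ℕ → Scheme.{u}) (qs : (n : ℕ) → (SymProd.fibPow p n ⟶ Sy n))
    (gs : (n : ℕ) → (Sy n ⟶ Spec (CommRingCat.of k))) (d m : ℕ) where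
  /-- the base -/
  T : Scheme.{u}
  /-- the structure morphism -/
  τ : T ⟶ Spec (CommRingCat.of k)
  /-- the points -/
  b : T ⟶ SymProd.fibPow p (d + d + m)
  /-- the rational curves -/
  h : pullback τ (CohB1.ProjSpace.toSpec 1 k) ⟶ Sy (d + m)
  red : IsReduced T
  qproj : RelProj.IsHQuasiProjective τ
  hb : b ≫ WidePullback.base (fun _ => p) = τ
  hh : h ≫ gs (d + m) = pullback.fst _ _ ≫ τ
  e₀ : sec τ (tp k 0) (tp_toSpec k 0) ≫ h = b ≫ rx p (i13 d m) ≫ qs (d + m)
  e₁ : sec τ (tp k 1) (tp_toSpec k 1) ≫ h = b ≫ rx p (i23 d m) ≫ qs (d + m)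

variable {p} {Sy : ℕ → Scheme.{u}} {qs : (n : ℕ) → (SymProd.fibPow p n ⟶ Sy n)}
  {gs : (n : ℕ) → (Sy n ⟶ Spec (CommRingCat.of k))} {d m : ℕ}

/-- The points of a family. -/
def Fam.pts (F : Fam p Sy qs gs d m) : Set (Spec (CommRingCat.of k) ⟶ SymProd.fibPow p (d + d + m)) :=
  {b₀ | ∃ t : Spec (CommRingCat.of k) ⟶ F.T, t ≫ F.τ = 𝟙 _ ∧ t ≫ F.b = b₀}

/-- the line over a point of the base -/
noncomputable def line {T : Scheme.{u}} (τ : T ⟶ Spec (CommRingCat.of k)) (t : Spec (CommRingCat.of k) ⟶ T)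
    (ht : t ≫ τ = 𝟙 _) : CohB1.ProjSpace 1 k ⟶ pullback τ (CohB1.ProjSpace.toSpec 1 k) :=
  pullback.lift (CohB1.ProjSpace.toSpec 1 k ≫ t) (𝟙 _)
    (by rw [Category.assoc, ht, Category.id_comp]; exact Category.comp_id _)

theorem line_fst {T : Scheme.{u}} (τ : T ⟶ Spec (CommRingCat.of k)) (t : Spec (CommRingCat.of k) ⟶ T)
    (ht : t ≫ τ = 𝟙 _) : line τ t ht ≫ pullback.fst _ _ = CohB1.ProjSpace.toSpec 1 k ≫ t := pullback.lift_fst _ _ _

theorem line_snd {T : Scheme.{u}} (τ : T ⟶ Spec (CommRingCat.of k)) (t : Spec (CommRingCat.of k) ⟶ T)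
    (ht : t ≫ τ = 𝟙 _) : line τ t ht ≫ pullback.snd _ _ = 𝟙 _ := pullback.lift_snd _ _ _

theorem comp_line {T : Scheme.{u}} (τ : T ⟶ Spec (CommRingCat.of k)) (t : Spec (CommRingCat.of k) ⟶ T)
    (ht : t ≫ τ = 𝟙 _) (s : Spec (CommRingCat.of k) ⟶ CohB1.ProjSpace 1 k)
    (hs : s ≫ CohB1.ProjSpace.toSpec 1 k = 𝟙 _) : s ≫ line τ t ht = t ≫ sec τ s hs := by
  apply pullback.hom_ext
  · rw [Category.assoc, Category.assoc, line_fst, sec_fst, ← Category.assoc, hs, Category.id_comp,
      Category.comp_id]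
  · rw [Category.assoc, Category.assoc, line_snd, sec_snd, ← Category.assoc, ht, Category.id_comp,
      Category.comp_id]

theorem Fam.isLink (F : Fam p Sy qs gs d m) (t : Spec (CommRingCat.of k) ⟶ F.T) (ht : t ≫ F.τ = 𝟙 _) :
    IsLink p Sy qs gs d m (t ≫ F.b) (line F.τ t ht ≫ F.h) := by
  refine ⟨?_, ?_, ?_, ?_⟩
  · rw [Category.assoc, F.hb, ht]
  · rw [Category.assoc, F.hh, ← Category.assoc, line_fst, Category.assoc, ht]
    exact Category.comp_id _
  · rw [← Category.assoc, comp_line _ _ _ _ (tp_toSpec k 0), Category.assoc, F.e₀, Category.assoc]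
  · rw [← Category.assoc, comp_line _ _ _ _ (tp_toSpec k 1), Category.assoc, F.e₁, Category.assoc]

variable [IsAlgClosed k] (hX : RelProj.IsHProjective p) (hS : ∀ n, SymProd.IsSymProd p n (qs n) (gs n))

include hX hS

/-- **All links of given degrees occur in countably many quasi-projective families.** -/
theorem exists_fams (d m : ℕ) : ∃ (ι : Type u) (_ : Countable ι) (F : ι → Fam p Sy qs gs d m),
    ∀ b₀ f, IsLink p Sy qs gs d m b₀ f → ∃ i, b₀ ∈ (F i).pts := by
  have hY := isHProjective_sym p hX (hS (d + m))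
  have hYp := MorFam.isProper_of_isHProjective hY
  have hB := isHProjective_fibPow p hX (d + d + m)
  have hpp := MorFam.isProper_of_isHProjective hX
  obtain ⟨ι, hι, T, τ, h, h1, h2, h3⟩ := MorFam.exists_families (CohB1.ProjSpace.toSpec 1 k) (gs (d + m))
    (isHProjective_toSpec 1) hY
  have hover : ∀ {n : ℕ} (φ : Fin n → Fin (d + d + m)), (rx p φ ≫ qs n) ≫ gs n = WidePullback.base (fun _ => p) := by
    intro n φ
    rw [Category.assoc, (hS n).over, rx_base]
  have key : ∀ i, ∃ F : Fam p Sy qs gs d m, ∀ (t : Spec (CommRingCat.of k) ⟶ T i)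
      (b₀ : Spec (CommRingCat.of k) ⟶ SymProd.fibPow p (d + d + m)), t ≫ τ i = 𝟙 _ →
      b₀ ≫ WidePullback.base (fun _ => p) = 𝟙 _ →
      t ≫ sec (τ i) (tp k 0) (tp_toSpec k 0) ≫ h i = b₀ ≫ rx p (i13 d m) ≫ qs (d + m) →
      t ≫ sec (τ i) (tp k 1) (tp_toSpec k 1) ≫ h i = b₀ ≫ rx p (i23 d m) ≫ qs (d + m) → b₀ ∈ F.pts := by
    intro i
    obtain ⟨P, pP, j, hP, hj, hjc, hjp⟩ := h1 i
    let base : SymProd.fibPow p (d + d + m) ⟶ Spec (CommRingCat.of k) := WidePullback.base (fun _ => p)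
    let W := pullback (τ i) base
    obtain ⟨E₀, ε₀, hε₀, h4, h5⟩ := exists_eqLocus (gs (d + m))
      (pullback.fst (τ i) base ≫ sec (τ i) (tp k 0) (tp_toSpec k 0) ≫ h i)
      (pullback.snd (τ i) base ≫ rx p (i13 d m) ≫ qs (d + m)) (by
        rw [Category.assoc, Category.assoc, h2, sec_fst_assoc, Category.assoc, hover]
        exact pullback.condition)
    obtain ⟨E₁, ε₁, hε₁, h6, h7⟩ := exists_eqLocus (gs (d + m))
      (ε₀ ≫ pullback.fst (τ i) base ≫ sec (τ i) (tp k 1) (tp_toSpec k 1) ≫ h i)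
      (ε₀ ≫ pullback.snd (τ i) base ≫ rx p (i23 d m) ≫ qs (d + m)) (by
        rw [Category.assoc, Category.assoc, Category.assoc, h2, sec_fst_assoc, Category.assoc, Category.assoc, hover]
        exact congrArg (ε₀ ≫ ·) pullback.condition)
    obtain ⟨E, ε, hε, hEr, hε'⟩ := exists_reduced_closed (Set.univ : Set E₁) isClosed_univ
    let v : E ⟶ W := ε ≫ ε₁ ≫ ε₀
    have hv : IsClosedImmersion v := inferInstance
    let τ' : E ⟶ Spec (CommRingCat.of k) := (v ≫ pullback.fst (τ i) base) ≫ τ i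
    let J : W ⟶ pullback pP base := pullback.map _ _ _ _ j (𝟙 _) (𝟙 _) (by rw [hjp]; exact Category.comp_id _)
      (by rw [Category.id_comp]; exact Category.comp_id _)
    have hJ1 : J ≫ pullback.fst pP base = pullback.fst (τ i) base ≫ j := pullback.lift_fst _ _ _
    have hJ2 : J ≫ pullback.snd pP base = pullback.snd (τ i) base :=
      (pullback.lift_snd _ _ _).trans (Category.comp_id _)
    have hJp : IsPullback J (pullback.fst (τ i) base) (pullback.fst pP base) j := by
      refine IsPullback.of_right (h₁₂ := pullback.snd pP base) (v₁₃ := base) (h₂₂ := pP) ?_ hJ1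
        (IsPullback.of_hasPullback pP base).flip
      rw [hJ2, hjp]
      exact (IsPullback.of_hasPullback (τ i) base).flip
    have hJ : IsImmersion J := MorphismProperty.of_isPullback hJp.flip hj
    have hJc : QuasiCompact J := MorphismProperty.of_isPullback hJp.flip hjc
    have hJ' : J ≫ pullback.fst pP base ≫ pP = pullback.fst (τ i) base ≫ τ i := by
      rw [← Category.assoc, hJ1, Category.assoc, hjp]
    refine ⟨⟨E, τ', v ≫ pullback.snd (τ i) base, bcm (τ i) (v ≫ pullback.fst (τ i) base) τ' rfl ≫ h i, hEr, ?_, ?_, ?_,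
      ?_, ?_⟩, ?_⟩
    · have h8 : τ' = (v ≫ J) ≫ pullback.fst pP base ≫ pP := by
        rw [Category.assoc, hJ']
        exact Category.assoc _ _ _
      rw [h8]
      exact MorFam.isHQuasiProjective_of_immersion (v ≫ J) (MorFam.isHProjective_prod pP base hP hB)
    · rw [Category.assoc]
      exact (congrArg (v ≫ ·) pullback.condition.symm).trans (Category.assoc _ _ _).symm
    · rw [Category.assoc, h2, bcm_fst_assoc]
    · rw [sec_bcm_assoc]
      have := congrArg (fun f => ε ≫ ε₁ ≫ f) h4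
      simpa only [v, Category.assoc] using this
    · rw [sec_bcm_assoc]
      have := congrArg (fun f => ε ≫ f) h6
      simpa only [v, Category.assoc] using this
    · intro t b₀ ht hb₀ e₀ e₁
      let w : Spec (CommRingCat.of k) ⟶ W := pullback.lift t b₀ (ht.trans hb₀.symm)
      have hw1 : w ≫ pullback.fst (τ i) base = t := pullback.lift_fst _ _ _
      have hw2 : w ≫ pullback.snd (τ i) base = b₀ := pullback.lift_snd _ _ _
      have hwa : ∀ {V : Scheme.{u}} (a : T i ⟶ V), w ≫ pullback.fst (τ i) base ≫ a = t ≫ a := fun a => by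
        rw [← Category.assoc, hw1]
      have hwb : ∀ {V : Scheme.{u}} (a : SymProd.fibPow p (d + d + m) ⟶ V), w ≫ pullback.snd (τ i) base ≫ a = b₀ ≫ a :=
        fun a => by rw [← Category.assoc, hw2]
      obtain ⟨w₀, hw₀⟩ := h5 _ w (by rw [hwa, hwb]; exact e₀)
      obtain ⟨w₁, hw₁⟩ := h7 _ w₀ (by
        have h9 : ∀ {V : Scheme.{u}} (a : W ⟶ V), w₀ ≫ ε₀ ≫ a = w ≫ a := fun a => by rw [← Category.assoc, hw₀]
        rw [h9, h9, hwa, hwb]
        exact e₁)
      obtain ⟨s, hs⟩ := LiftPt.exists_lift ε (fun x => by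
        have : x ∈ Set.range ε := by rw [hε']; trivial
        exact this) w₁
      have hsv : s ≫ v = w := by
        simp only [v]
        rw [← Category.assoc, hs, ← Category.assoc, hw₁, hw₀]
      refine ⟨s, ?_, ?_⟩
      · change s ≫ (v ≫ pullback.fst (τ i) base) ≫ τ i = _
        rw [← Category.assoc, ← Category.assoc, hsv, hw1, ht]
      · change s ≫ v ≫ pullback.snd (τ i) base = _
        rw [← Category.assoc, hsv, hw2]
  choose F hF using key
  refine ⟨ι, hι, F, fun b₀ f hl => ?_⟩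
  obtain ⟨i, t, ht, hf⟩ := h3 f hl.ov
  have key2 : ∀ (s : Spec (CommRingCat.of k) ⟶ CohB1.ProjSpace 1 k) (hs : s ≫ CohB1.ProjSpace.toSpec 1 k = 𝟙 _),
      t ≫ sec (τ i) s hs ≫ h i = s ≫ f := by
    intro s hs
    have hf' : line (τ i) t ht ≫ h i = f := hf
    rw [← hf', ← Category.assoc, ← Category.assoc, comp_line (τ i) t ht s hs]
  exact ⟨i, hF i t b₀ ht hl.base ((key2 _ _).trans hl.zero) ((key2 _ _).trans hl.one)⟩

end K754.LinkFam
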