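import Groth.Agent.ZCorr.K754.SymPt

/-!
# Zero cycles of points of fibre powers
-/

set_option autoImplicit false
universe u

open CategoryTheory CategoryTheory.Limits AlgebraicGeometry TopologicalSpace
open Groth.Agent K952.Basic K952.Pts

namespace K754.SymCnt

open SymPt

variable {k : Type u} [Field k] {X : Scheme.{u}} (p : X ⟶ Spec (CommRingCat.of k))

/-- The zero cycle of a point of a fibre power. -/
noncomputable def cnt {n : ℕ} (t : Spec (CommRingCat.of k) ⟶ SymProd.fibPow p n) (x : X) : ℤ :=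
  (Nat.card {i : Fin n // (t ≫ WidePullback.π (fun _ => p) i) (IsLocalRing.closedPoint k) = x} : ℤ)

theorem isCycle {n : ℕ} {Sy : Scheme.{u}} (q : SymProd.fibPow p n ⟶ Sy)
    (t : Spec (CommRingCat.of k) ⟶ SymProd.fibPow p n) : ZCorr.IsCycleOfSymPt p n q (t ≫ q) (cnt p t) :=
  ⟨t, rfl, fun _ => rfl⟩

theorem card_append {C : Type*} {a b n : ℕ} (φ : Fin a → Fin n) (ψ : Fin b → Fin n) (c : Fin n → C) (x : C) :
    Nat.card {i : Fin (a + b) // c (Fin.append φ ψ i) = x} =
      Nat.card {i : Fin a // c (φ i) = x} + Nat.card {i : Fin b // c (ψ i) = x} := by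
  have e1 : {i : Fin a ⊕ Fin b // c (Fin.append φ ψ (finSumFinEquiv i)) = x} ≃
      {i : Fin (a + b) // c (Fin.append φ ψ i) = x} :=
    Equiv.subtypeEquiv finSumFinEquiv (fun i => Iff.rfl)
  rw [← Nat.card_congr e1, Nat.card_congr (Equiv.subtypeSum), Nat.card_sum]
  congr 1
  · refine Nat.card_congr (Equiv.subtypeEquivRight fun i => ?_)
    simp
  · refine Nat.card_congr (Equiv.subtypeEquivRight fun i => ?_)
    simp

theorem cnt_append {a b n : ℕ} (φ : Fin a → Fin n) (ψ : Fin b → Fin n)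
    (t : Spec (CommRingCat.of k) ⟶ SymProd.fibPow p n) (x : X) :
    cnt p (t ≫ rx p (Fin.append φ ψ)) x = cnt p (t ≫ rx p φ) x + cnt p (t ≫ rx p ψ) x := by
  have h1 : ∀ {a : ℕ} (φ : Fin a → Fin n) (i : Fin a), (t ≫ rx p φ) ≫ WidePullback.π (fun _ => p) i =
      t ≫ WidePullback.π (fun _ => p) (φ i) := fun φ i => by rw [Category.assoc, rx_π]
  simp only [cnt, h1]
  rw [card_append φ ψ (fun j => (t ≫ WidePullback.π (fun _ => p) j) (IsLocalRing.closedPoint k)) x]
  push_cast
  rfl

theorem finite_support {n : ℕ} (t : Spec (CommRingCat.of k) ⟶ SymProd.fibPow p n) :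
    (Function.support (cnt p t)).Finite := by
  refine (Set.finite_range fun i : Fin n => (t ≫ WidePullback.π (fun _ => p) i) (IsLocalRing.closedPoint k)).subset ?_
  intro x hx
  by_contra hcon
  apply hx
  have : IsEmpty {i : Fin n // (t ≫ WidePullback.π (fun _ => p) i) (IsLocalRing.closedPoint k) = x} :=
    ⟨fun i => hcon ⟨i.1, i.2⟩⟩
  unfold cnt
  rw [Nat.card_of_isEmpty]
  rfl

theorem exists_coord {n : ℕ} (t : Spec (CommRingCat.of k) ⟶ SymProd.fibPow p n) {x : X} (hx : cnt p t x ≠ 0) :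
    ∃ i : Fin n, (t ≫ WidePullback.π (fun _ => p) i) (IsLocalRing.closedPoint k) = x := by
  by_contra hcon
  apply hx
  have : IsEmpty {i : Fin n // (t ≫ WidePullback.π (fun _ => p) i) (IsLocalRing.closedPoint k) = x} :=
    ⟨fun i => hcon ⟨i.1, i.2⟩⟩
  unfold cnt
  rw [Nat.card_of_isEmpty]
  rfl

theorem cnt_nonneg {n : ℕ} (t : Spec (CommRingCat.of k) ⟶ SymProd.fibPow p n) (x : X) : 0 ≤ cnt p t x :=
  Int.natCast_nonneg _

theorem section_π {n : ℕ} (t : Spec (CommRingCat.of k) ⟶ SymProd.fibPow p n)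
    (ht : t ≫ WidePullback.base (fun _ => p) = 𝟙 _) (i : Fin n) : (t ≫ WidePullback.π (fun _ => p) i) ≫ p = 𝟙 _ := by
  rw [Category.assoc, WidePullback.π_arrow, ht]

theorem isClosed_section [IsSeparated p] (s : Spec (CommRingCat.of k) ⟶ X) (hs : s ≫ p = 𝟙 _) :
    IsClosed ({s (IsLocalRing.closedPoint k)} : Set X) := by
  have h1 : IsClosedImmersion s := by
    have : IsClosedImmersion (s ≫ p) := by rw [hs]; infer_instance
    exact IsClosedImmersion.of_comp s p
  have h2 := s.isClosedEmbedding.isClosed_range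
  have h3 : Set.range s = {s (IsLocalRing.closedPoint k)} := by
    apply Set.Subset.antisymm
    · rintro _ ⟨a, rfl⟩
      rw [Subsingleton.elim a (IsLocalRing.closedPoint k)]
      rfl
    · rintro _ rfl
      exact ⟨_, rfl⟩
  rwa [h3] at h2

theorem sum_cnt {n : ℕ} (t : Spec (CommRingCat.of k) ⟶ SymProd.fibPow p n) : ∑ᶠ x, cnt p t x = (n : ℤ) := by
  have h1 := K952.LiftPt.finsum_card_fiber (fun i : Fin n => (t ≫ WidePullback.π (fun _ => p) i) (IsLocalRing.closedPoint k))
  rw [Nat.card_eq_fintype_card, Fintype.card_fin] at h1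
  exact h1

/-- Points of the fibre power with the same zero cycle have the same image in the symmetric product. -/
theorem comp_eq_of_cnt_eq {n : ℕ} {Sy : Scheme.{u}} {q : SymProd.fibPow p n ⟶ Sy} {g : Sy ⟶ Spec (CommRingCat.of k)}
    (hS : SymProd.IsSymProd p n q g) (t s : Spec (CommRingCat.of k) ⟶ SymProd.fibPow p n)
    (ht : t ≫ WidePullback.base (fun _ => p) = 𝟙 _) (hs : s ≫ WidePullback.base (fun _ => p) = 𝟙 _)
    (h : cnt p t = cnt p s) : t ≫ q = s ≫ q := by
  obtain ⟨e, he⟩ := K952.SymCorr.exists_equiv_of_fibres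
    (fun i : Fin n => (t ≫ WidePullback.π (fun _ => p) i) (IsLocalRing.closedPoint k))
    (fun i : Fin n => (s ≫ WidePullback.π (fun _ => p) i) (IsLocalRing.closedPoint k)) (fun x => by
      have h1 : cnt p t x = cnt p s x := congrFun h x
      have h2 : Nat.card {i : Fin n // (t ≫ WidePullback.π (fun _ => p) i) (IsLocalRing.closedPoint k) = x} =
          Nat.card {i : Fin n // (s ≫ WidePullback.π (fun _ => p) i) (IsLocalRing.closedPoint k) = x} := by
        unfold cnt at h1
        exact_mod_cast h1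
      exact Finite.card_eq.1 h2)
  have h3 : t = s ≫ SymProd.permHom p n e.symm := by
    apply WidePullback.hom_ext
    · intro i
      rw [Category.assoc, SymProd.permHom_π, Equiv.symm_symm]
      exact Groth.Agent.Sga7.H270.FinPts.section_ext p _ _ (section_π p t ht i) (section_π p s hs (e i)) (he i).symm
    · rw [Category.assoc, SymProd.permHom_base, ht, hs]
  have h4 : SymProd.permHom p n e.symm ≫ q = q := hS.isQuot.inv ⟨e.symm⟩
  rw [h3, Category.assoc, h4]

/-- Effective zero cycles are the cycles of points of fibre powers. -/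
theorem exists_pt [IsAlgClosed k] [LocallyOfFiniteType p] {γ : X → ℤ} (hfin : (Function.support γ).Finite)
    (hγ : ∀ x, γ x ≠ 0 → dm p x = 0) (hγ0 : ∀ x, 0 ≤ γ x) (m : ℕ) (hm : ∑ᶠ x, γ x = (m : ℤ)) :
    ∃ y : Spec (CommRingCat.of k) ⟶ SymProd.fibPow p m, y ≫ WidePullback.base (fun _ => p) = 𝟙 _ ∧ cnt p y = γ := by
  classical
  let A : Type u := Σ x : hfin.toFinset, Fin (γ x.1).toNat
  have hA : Fintype.card A = m := by
    rw [Fintype.card_sigma]
    simp only [Fintype.card_fin]
    have h1 : ((∑ x : hfin.toFinset, (γ x.1).toNat : ℕ) : ℤ) = (m : ℤ) := by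
      rw [← hm, finsum_eq_sum_of_support_subset γ (s := hfin.toFinset) (by simp)]
      push_cast
      rw [← Finset.sum_coe_sort hfin.toFinset γ]
      exact Finset.sum_congr rfl fun x _ => Int.toNat_of_nonneg (hγ0 x.1)
    exact_mod_cast h1
  let e : A ≃ Fin m := Fintype.equivFinOfCardEq hA
  have hcl : ∀ x : hfin.toFinset, IsClosed ({x.1} : Set X) := fun x =>
    (dm_eq_zero_iff_isClosed p x.1).1 (hγ x.1 ((Set.Finite.mem_toFinset hfin).1 x.2))
  let c : A → (Spec (CommRingCat.of k) ⟶ X) := fun a => pointOfClosedPoint p a.1.1 (hcl a.1)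
  have hc : ∀ a, c a ≫ p = 𝟙 _ := fun a => pointOfClosedPoint_comp p _ _
  have hc' : ∀ a, c a (IsLocalRing.closedPoint k) = a.1.1 := fun a => pointOfClosedPoint_apply p _ _ _
  let y : Spec (CommRingCat.of k) ⟶ SymProd.fibPow p m :=
    WidePullback.lift (𝟙 _) (fun i => c (e.symm i)) (fun i => hc _)
  have hy : ∀ i, y ≫ WidePullback.π (fun _ => p) i = c (e.symm i) := fun i => WidePullback.lift_π _ _ _ _ i
  refine ⟨y, WidePullback.lift_base _ _ _ _, ?_⟩
  funext x
  unfold cnt
  simp only [hy, hc']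
  have e1 : {i : Fin m // (e.symm i).1.1 = x} ≃ {a : A // a.1.1 = x} :=
    Equiv.subtypeEquiv e.symm (fun i => Iff.rfl)
  rw [Nat.card_congr e1]
  by_cases hx : x ∈ hfin.toFinset
  · have e2 : {a : A // a.1.1 = x} ≃ Fin (γ x).toNat :=
      { toFun := fun a => Fin.cast (by rw [a.2]) a.1.2
        invFun := fun j => ⟨⟨⟨x, hx⟩, j⟩, rfl⟩
        left_inv := by
          rintro ⟨⟨⟨x', hx'⟩, j⟩, h⟩
          have h' : x' = x := h
          subst h'
          rfl
        right_inv := fun j => rfl }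
    rw [Nat.card_congr e2, Nat.card_eq_fintype_card, Fintype.card_fin]
    exact Int.toNat_of_nonneg (hγ0 x)
  · have h0 : γ x = 0 := by
      by_contra hne
      exact hx ((Set.Finite.mem_toFinset hfin).2 hne)
    have : IsEmpty {a : A // a.1.1 = x} := ⟨fun a => hx (a.2 ▸ a.1.1.2)⟩
    rw [Nat.card_of_isEmpty, h0]
    rfl

end K754.SymCnt
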