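import Groth.Agent.ZCorr.K754.SpecRel
import Groth.Agent.Curves.K329.ArcOver
import Groth.Agent.Sga7.H270.FinPts
import Groth.Agent.ZCorr.K754.SymCnt

/-!
# Specialization of rational curves in families over varieties

`rel_of_mem_closure`: for a family of rational curves over `T` with end points given by a morphism `b : T ⟶ B`, the
relation of the end points extends to the closure of the image of `T` in `B`.
-/

set_option autoImplicit false
universe u

open CategoryTheory CategoryTheory.Limits AlgebraicGeometry TopologicalSpace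
open Groth.Agent K754.RatCov

namespace K754.LinkSpec

open K329.ArcThrough

variable {k : Type u} [Field k] [IsAlgClosed k]

/-- the closed point of an arc -/
noncomputable def cpt (k : Type u) [Field k] : Spec (CommRingCat.of k) ⟶ Spec (CommRingCat.of (PowerSeries k)) :=
  Spec.map (CommRingCat.ofHom (PowerSeries.constantCoeff (R := k)))

instance : IsClosedImmersion (cpt k) :=
  IsClosedImmersion.spec_of_surjective _ (PowerSeries.constantCoeff_surj)

omit [IsAlgClosed k] in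
theorem cpt_comp : cpt k ≫ Spec.map (CommRingCat.ofHom (algebraMap k (PowerSeries k))) = 𝟙 _ := by
  unfold cpt
  rw [← Spec.map_comp, ← CommRingCat.ofHom_comp]
  have : (PowerSeries.constantCoeff (R := k)).comp (algebraMap k (PowerSeries k)) = RingHom.id k := by
    ext x
    simp
  rw [this]
  exact Spec.map_id _

omit [IsAlgClosed k] in
theorem cpt_apply : cpt k (IsLocalRing.closedPoint k) = IsLocalRing.closedPoint (PowerSeries k) := by
  have h1 : IsClosed ({cpt k (IsLocalRing.closedPoint k)} : Set (Spec (CommRingCat.of (PowerSeries k)))) := by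
    have h2 := (cpt k).isClosedEmbedding.isClosed_range
    have h3 : Set.range (cpt k) = {cpt k (IsLocalRing.closedPoint k)} := by
      apply Set.Subset.antisymm
      · rintro _ ⟨a, rfl⟩
        rw [Subsingleton.elim a (IsLocalRing.closedPoint k)]
        rfl
      · rintro _ rfl
        exact ⟨_, rfl⟩
    rwa [h3] at h2
  have h4 := (IsLocalRing.specializes_closedPoint (R := PowerSeries k) (cpt k (IsLocalRing.closedPoint k)))
  exact (h4.mem_closed h1 rfl).symm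

section Sec

variable {T : Scheme.{u}} (τ : T ⟶ Spec (CommRingCat.of k)) (t : Spec (CommRingCat.of k) ⟶ CohB1.ProjSpace 1 k)
  (ht : t ≫ CohB1.ProjSpace.toSpec 1 k = 𝟙 _)

/-- the constant section of the trivial family of projective lines -/
noncomputable def sec : T ⟶ pullback τ (CohB1.ProjSpace.toSpec 1 k) :=
  pullback.lift (𝟙 T) (τ ≫ t) (by rw [Category.id_comp, Category.assoc, ht, Category.comp_id])

omit [IsAlgClosed k] in
@[reassoc]
theorem sec_fst : sec τ t ht ≫ pullback.fst τ (CohB1.ProjSpace.toSpec 1 k) = 𝟙 _ := pullback.lift_fst _ _ _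

omit [IsAlgClosed k] in
@[reassoc]
theorem sec_snd : sec τ t ht ≫ pullback.snd τ (CohB1.ProjSpace.toSpec 1 k) = τ ≫ t := pullback.lift_snd _ _ _

/-- base change of the trivial family of projective lines -/
noncomputable def bcm {T' : Scheme.{u}} (v : T' ⟶ T) (τ' : T' ⟶ Spec (CommRingCat.of k)) (hv : v ≫ τ = τ') :
    pullback τ' (CohB1.ProjSpace.toSpec 1 k) ⟶ pullback τ (CohB1.ProjSpace.toSpec 1 k) :=
  pullback.lift (pullback.fst _ _ ≫ v) (pullback.snd _ _) (by rw [Category.assoc, hv]; exact pullback.condition)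

omit [IsAlgClosed k] in
@[reassoc]
theorem bcm_fst {T' : Scheme.{u}} (v : T' ⟶ T) (τ' : T' ⟶ Spec (CommRingCat.of k)) (hv : v ≫ τ = τ') :
    bcm τ v τ' hv ≫ pullback.fst _ _ = pullback.fst _ _ ≫ v := pullback.lift_fst _ _ _

omit [IsAlgClosed k] in
@[reassoc]
theorem bcm_snd {T' : Scheme.{u}} (v : T' ⟶ T) (τ' : T' ⟶ Spec (CommRingCat.of k)) (hv : v ≫ τ = τ') :
    bcm τ v τ' hv ≫ pullback.snd _ _ = pullback.snd _ _ := pullback.lift_snd _ _ _

omit [IsAlgClosed k] in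
@[reassoc]
theorem sec_bcm {T' : Scheme.{u}} (v : T' ⟶ T) (τ' : T' ⟶ Spec (CommRingCat.of k)) (hv : v ≫ τ = τ') :
    sec τ' t ht ≫ bcm τ v τ' hv = v ≫ sec τ t ht := by
  apply pullback.hom_ext
  · rw [Category.assoc, Category.assoc, bcm_fst, sec_fst, sec_fst_assoc, Category.comp_id]
  · rw [Category.assoc, Category.assoc, bcm_snd, sec_snd, sec_snd, ← hv, Category.assoc]

end Sec

variable {Y B T : Scheme.{u}} (gY : Y ⟶ Spec (CommRingCat.of k)) (hY : RelProj.IsHProjective gY)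
    (R : (Spec (CommRingCat.of k) ⟶ Y) → (Spec (CommRingCat.of k) ⟶ Y) → Prop)
    (htrans : ∀ u v w : Spec (CommRingCat.of k) ⟶ Y, u ≫ gY = 𝟙 _ → v ≫ gY = 𝟙 _ → w ≫ gY = 𝟙 _ → R u v → R v w → R u w)
    (hrat : ∀ ψ : CohB1.ProjSpace 1 k ⟶ Y, ψ ≫ gY = CohB1.ProjSpace.toSpec 1 k →
      ∀ s t : Spec (CommRingCat.of k) ⟶ CohB1.ProjSpace 1 k, s ≫ CohB1.ProjSpace.toSpec 1 k = 𝟙 _ →
        t ≫ CohB1.ProjSpace.toSpec 1 k = 𝟙 _ → R (s ≫ ψ) (t ≫ ψ))
    (gB : B ⟶ Spec (CommRingCat.of k)) [IsSeparated gB] [LocallyOfFiniteType gB] [QuasiCompact gB]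
    (y₀ y₁ : B ⟶ Y) (hy₀ : y₀ ≫ gY = gB) (hy₁ : y₁ ≫ gY = gB)
    (t₀ t₁ : Spec (CommRingCat.of k) ⟶ CohB1.ProjSpace 1 k) (ht₀ : t₀ ≫ CohB1.ProjSpace.toSpec 1 k = 𝟙 _)
    (ht₁ : t₁ ≫ CohB1.ProjSpace.toSpec 1 k = 𝟙 _)

include hY htrans hrat hy₀ hy₁

theorem rel_affine {C : Type u} [CommRing C] [Algebra k C] [Algebra.FiniteType k C]
    (b : Spec (CommRingCat.of C) ⟶ B) (hb : b ≫ gB = Spec.map (CommRingCat.ofHom (algebraMap k C)))
    (h : pullback (Spec.map (CommRingCat.ofHom (algebraMap k C))) (CohB1.ProjSpace.toSpec 1 k) ⟶ Y)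
    (hh : h ≫ gY = pullback.fst _ _ ≫ Spec.map (CommRingCat.ofHom (algebraMap k C)))
    (e₀ : sec (Spec.map (CommRingCat.ofHom (algebraMap k C))) t₀ ht₀ ≫ h = b ≫ y₀)
    (e₁ : sec (Spec.map (CommRingCat.ofHom (algebraMap k C))) t₁ ht₁ ≫ h = b ≫ y₁)
    (b₀ : Spec (CommRingCat.of k) ⟶ B) (hb₀ : b₀ ≫ gB = 𝟙 _)
    (hcl : b₀ (IsLocalRing.closedPoint k) ∈ closure (Set.range b)) : R (b₀ ≫ y₀) (b₀ ≫ y₁) := by
  obtain ⟨τ, β, hβ1, hβ2, hβ3⟩ := K329.ArcOver.exists_arc_over gB b hb (b₀ (IsLocalRing.closedPoint k))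
    (SymCnt.isClosed_section gB b₀ hb₀) hcl
  have hβ4 : cpt k ≫ β = b₀ := by
    refine Groth.Agent.Sga7.H270.FinPts.section_ext gB _ _ ?_ hb₀ ?_
    · rw [Category.assoc, hβ1, cpt_comp]
    · rw [Scheme.Hom.comp_apply]
      exact (congrArg β cpt_apply).trans hβ2
  let σC : Spec (CommRingCat.of C) ⟶ Spec (CommRingCat.of k) := Spec.map (CommRingCat.ofHom (algebraMap k C))
  let s : Spec (CommRingCat.of (LaurentSeries k)) ⟶ Spec (CommRingCat.of C) :=
    Spec.map (CommRingCat.ofHom (τ : C →+* LaurentSeries k))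
  have hs : s ≫ σC = Spec.map (CommRingCat.ofHom (algebraMap k (LaurentSeries k))) := by
    simp only [s, σC]
    rw [← Spec.map_comp, ← CommRingCat.ofHom_comp, AlgHom.comp_algebraMap]
  have hP := CohqB.ProjBC.isPullback_pmap (algebraMap k (LaurentSeries k)) 1
  let J := CohqB.ProjBC.pmap (algebraMap k (LaurentSeries k)) 1
  let Φ : CohB1.ProjSpace 1 (LaurentSeries k) ⟶ pullback σC (CohB1.ProjSpace.toSpec 1 k) :=
    pullback.lift (CohB1.ProjSpace.toSpec 1 (LaurentSeries k) ≫ s) J (by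
      rw [Category.assoc, hs]
      exact hP.w.symm)
  have key : ∀ (t : Spec (CommRingCat.of k) ⟶ CohB1.ProjSpace 1 k) (ht : t ≫ CohB1.ProjSpace.toSpec 1 k = 𝟙 _)
      (y : B ⟶ Y) (_ : sec σC t ht ≫ h = b ≫ y),
      ∃ τ' : Spec (CommRingCat.of (LaurentSeries k)) ⟶ CohB1.ProjSpace 1 (LaurentSeries k),
        τ' ≫ CohB1.ProjSpace.toSpec 1 (LaurentSeries k) = 𝟙 _ ∧
        Spec.map (CommRingCat.ofHom (algebraMap (PowerSeries k) (LaurentSeries k))) ≫ β ≫ y = τ' ≫ Φ ≫ h := by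
    intro t ht y e
    let τ' : Spec (CommRingCat.of (LaurentSeries k)) ⟶ CohB1.ProjSpace 1 (LaurentSeries k) :=
      hP.lift (Spec.map (CommRingCat.ofHom (algebraMap k (LaurentSeries k))) ≫ t) (𝟙 _) (by
        rw [Category.assoc, ht, Category.comp_id, Category.id_comp])
    have h1 : τ' ≫ J = Spec.map (CommRingCat.ofHom (algebraMap k (LaurentSeries k))) ≫ t := hP.lift_fst _ _ _
    have h2 : τ' ≫ CohB1.ProjSpace.toSpec 1 (LaurentSeries k) = 𝟙 _ := hP.lift_snd _ _ _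
    refine ⟨τ', h2, ?_⟩
    have h3 : τ' ≫ Φ = s ≫ sec σC t ht := by
      apply pullback.hom_ext
      · rw [Category.assoc, Category.assoc, pullback.lift_fst, sec_fst, ← Category.assoc, h2,
          Category.id_comp, Category.comp_id]
      · rw [Category.assoc, Category.assoc, pullback.lift_snd, sec_snd, h1, ← Category.assoc, hs]
    rw [← Category.assoc τ', h3, Category.assoc, e, ← Category.assoc, ← Category.assoc]
    exact congrArg (· ≫ y) hβ3
  obtain ⟨τ₀, h₀, h₀'⟩ := key t₀ ht₀ y₀ e₀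
  obtain ⟨τ₁, h₁, h₁'⟩ := key t₁ ht₁ y₁ e₁
  have := SpecRel.rel_specialize (A := PowerSeries k) (K := LaurentSeries k) gY hY R htrans hrat (cpt k) cpt_comp
    (Φ ≫ h) (by
      rw [Category.assoc, hh, ← Category.assoc, pullback.lift_fst, Category.assoc]
      congr 1
      rw [hs, ← Spec.map_comp]
      rfl) τ₀ τ₁ h₀ h₁ (β ≫ y₀) (β ≫ y₁) (by rw [Category.assoc, hy₀, hβ1]) (by rw [Category.assoc, hy₁, hβ1]) h₀' h₁'
  rwa [← Category.assoc, ← Category.assoc, hβ4] at this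

variable (τ : T ⟶ Spec (CommRingCat.of k)) [LocallyOfFiniteType τ] [QuasiCompact τ] (b : T ⟶ B) (hb : b ≫ gB = τ)
    (h : pullback τ (CohB1.ProjSpace.toSpec 1 k) ⟶ Y) (hh : h ≫ gY = pullback.fst _ _ ≫ τ)
    (e₀ : sec τ t₀ ht₀ ≫ h = b ≫ y₀) (e₁ : sec τ t₁ ht₁ ≫ h = b ≫ y₁)
    (b₀ : Spec (CommRingCat.of k) ⟶ B) (hb₀ : b₀ ≫ gB = 𝟙 _)

include hb hh e₀ e₁ hb₀

omit [QuasiCompact τ] in
theorem rel_chart {W : Scheme.{u}} [IsAffine W] (w : W ⟶ T) [LocallyOfFiniteType w]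
    (hcl : b₀ (IsLocalRing.closedPoint k) ∈ closure (Set.range (w ≫ b))) : R (b₀ ≫ y₀) (b₀ ≫ y₁) := by
  let C : Type u := Γ(W, ⊤)
  let ε : Spec (CommRingCat.of C) ⟶ W := W.isoSpec.inv
  let r : k →+* C := (Spec.preimage (ε ≫ w ≫ τ) : CommRingCat.of k ⟶ CommRingCat.of C).hom
  let : Algebra k C := r.toAlgebra
  have hr : Spec.map (CommRingCat.ofHom (algebraMap k C)) = ε ≫ w ≫ τ := Spec.map_preimage _
  have hft : Algebra.FiniteType k C := by
    have h2 : LocallyOfFiniteType (Spec.map (CommRingCat.ofHom (algebraMap k C))) := by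
      rw [hr]
      infer_instance
    exact RingHom.finiteType_algebraMap.1 ((HasRingHomProperty.Spec_iff (P := @LocallyOfFiniteType)).1 h2)
  have hv : (ε ≫ w) ≫ τ = Spec.map (CommRingCat.ofHom (algebraMap k C)) := by rw [hr]; exact Category.assoc _ _ _
  refine rel_affine gY hY R htrans hrat gB y₀ y₁ hy₀ hy₁ t₀ t₁ ht₀ ht₁ (C := C) ((ε ≫ w) ≫ b)
    (by rw [Category.assoc, hb, hv]) (bcm τ (ε ≫ w) _ hv ≫ h) ?_ ?_ ?_ b₀ hb₀ ?_
  · rw [Category.assoc, hh, bcm_fst_assoc, hv]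
  · rw [sec_bcm_assoc, e₀]
    simp only [Category.assoc]
  · rw [sec_bcm_assoc, e₁]
    simp only [Category.assoc]
  · have h4 : Set.range ((ε ≫ w) ≫ b) = Set.range (w ≫ b) := by
      have h5 : Function.Surjective ε := (W.isoSpec.symm.hom).homeomorph.surjective
      have h6 : (ε ≫ w) ≫ b = ε ≫ w ≫ b := Category.assoc _ _ _
      rw [h6]
      apply Set.Subset.antisymm
      · rintro _ ⟨x, rfl⟩
        exact ⟨ε x, rfl⟩
      · rintro _ ⟨x, rfl⟩
        obtain ⟨x', rfl⟩ := h5 x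
        exact ⟨x', rfl⟩
    rw [h4]
    exact hcl

theorem rel_of_mem_closure (hcl : b₀ (IsLocalRing.closedPoint k) ∈ closure (Set.range b)) :
    R (b₀ ≫ y₀) (b₀ ≫ y₁) := by
  have hTc : CompactSpace T := QuasiCompact.compactSpace_of_compactSpace τ
  let 𝒰 := T.affineCover.finiteSubcover
  have hfin : Finite 𝒰.I₀ := inferInstance
  have h1 : Set.range b = ⋃ i : 𝒰.I₀, Set.range (𝒰.f i ≫ b) := by
    apply Set.Subset.antisymm
    · rintro _ ⟨x, rfl⟩
      obtain ⟨y, hy⟩ := 𝒰.covers x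
      exact Set.mem_iUnion.2 ⟨_, y, by rw [Scheme.Hom.comp_apply, hy]⟩
    · refine Set.iUnion_subset fun i => ?_
      rintro _ ⟨x, rfl⟩
      exact ⟨_, rfl⟩
  rw [h1, closure_iUnion_of_finite] at hcl
  obtain ⟨i, hi⟩ := Set.mem_iUnion.1 hcl
  have hfa : IsAffine (𝒰.X i) := inferInstanceAs (IsAffine (Spec _))
  exact rel_chart gY hY R htrans hrat gB y₀ y₁ hy₀ hy₁ t₀ t₁ ht₀ ht₁ τ b hb h hh e₀ e₁ b₀ hb₀ (𝒰.f i) hi

end K754.LinkSpec
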