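import Groth.Agent.Dix.ExcCurve
import Groth.Agent.Dix.BirIso
import Groth.Agent.Divis.BlowUpFormal
import Groth.Agent.Ega1.ReducedSub
import Groth.Agent.RatCurv.K888.P1Map
import Groth.Agent.S0024
import Groth.Agent.CohqB.ProjBC
import Groth.Agent.FlatA.SteinNoeth

/-!
# Special fibres covered by rational curves

`Cov c z` for `z : Z ⟶ S` and a closed point `c : Spec κ ⟶ S`, `κ` algebraically closed: the fibre of `z` over `c` is
preconnected and every point of it lies on the image of a morphism `P^1_κ ⟶ Z` over `S`.  `Cov.blowUp`: the property is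
preserved by blowing up a regular closed point of codimension two.
-/

set_option autoImplicit false
universe u

open CategoryTheory CategoryTheory.Limits AlgebraicGeometry TopologicalSpace
open Groth.Agent Groth.Agent.Dix.PointIdeal

namespace K754.RatCov

/-- Preimages of preconnected closed sets under closed maps with preconnected fibres. -/
theorem isPreconnected_preimage {X Y : Type*} [TopologicalSpace X] [TopologicalSpace Y] {f : X → Y}
    (hf : IsClosedMap f) (hc : Continuous f) {T : Set Y} (hT : IsPreconnected T) (hTc : IsClosed T)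
    (hfib : ∀ t ∈ T, IsPreconnected (f ⁻¹' {t})) (hsurj : T ⊆ Set.range f) :
    IsPreconnected (f ⁻¹' T) := by
  rw [isPreconnected_closed_iff]
  rintro u v hu hv huv ⟨a, haT, hau⟩ ⟨b, hbT, hbv⟩
  have hcover : T ⊆ f '' (u ∩ f ⁻¹' T) ∪ f '' (v ∩ f ⁻¹' T) := by
    intro t ht
    obtain ⟨x, rfl⟩ := hsurj ht
    rcases huv (show x ∈ f ⁻¹' T from ht) with h | h
    · exact Or.inl ⟨x, ⟨h, ht⟩, rfl⟩
    · exact Or.inr ⟨x, ⟨h, ht⟩, rfl⟩
  obtain ⟨t, htT, ⟨x, ⟨hxu, hxT⟩, hx⟩, ⟨x', ⟨hxv, _⟩, hx'⟩⟩ := (isPreconnected_closed_iff.1 hT) (f '' (u ∩ f ⁻¹' T))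
    (f '' (v ∩ f ⁻¹' T)) (hf _ (hu.inter (hTc.preimage hc))) (hf _ (hv.inter (hTc.preimage hc))) hcover
    ⟨f a, haT, a, ⟨hau, haT⟩, rfl⟩ ⟨f b, hbT, b, ⟨hbv, hbT⟩, rfl⟩
  obtain ⟨w, hw, hwu⟩ := (isPreconnected_closed_iff.1 (hfib t htT)) u v hu hv
    (fun z hz => huv (show f z ∈ T by rw [show f z = t from hz]; exact htT)) ⟨x, hx, hxu⟩ ⟨x', hx', hxv⟩
  exact ⟨w, show f w ∈ T by rw [show f w = t from hw]; exact htT, hwu⟩

/-- Morphisms from a projective line to the spectrum of a field come from the field of constants. -/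
theorem exists_const {κ : Type u} [Field κ] {k' : Type u} [Field k']
    (g : CohB1.ProjSpace 1 k' ⟶ Spec (CommRingCat.of κ)) :
    ∃ θ : κ →+* k', g = CohB1.ProjSpace.toSpec 1 k' ≫ Spec.map (CommRingCat.ofHom θ) := by
  have h0 := Groth.Agent.S0024.result 1 k'
  let θ' : CommRingCat.of κ ⟶ CommRingCat.of k' := (Scheme.ΓSpecIso (CommRingCat.of κ)).inv ≫ g.appTop ≫
    inv (CohB1.ProjSpace.toSpec 1 k').appTop ≫ (Scheme.ΓSpecIso (CommRingCat.of k')).hom
  refine ⟨θ'.hom, ?_⟩
  refine ext_of_isAffine ?_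
  rw [Scheme.Hom.comp_appTop]
  have h1 := Scheme.ΓSpecIso_naturality θ'
  have h2 : (Spec.map θ').appTop = (Scheme.ΓSpecIso (CommRingCat.of κ)).hom ≫ θ' ≫
      (Scheme.ΓSpecIso (CommRingCat.of k')).inv := by
    rw [← Category.assoc, ← h1, Category.assoc, Iso.hom_inv_id, Category.comp_id]
  have h3 : CommRingCat.ofHom θ'.hom = θ' := rfl
  rw [h3, h2]
  simp [θ']

/-- Re-parametrisation over the base field: a projective line (over any field) mapping to the fibre over an
algebraically closed closed point has the same image as a projective line over the base field. -/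
theorem exists_param {S Z : Scheme.{u}} {κ : Type u} [Field κ] [IsAlgClosed κ] (c : Spec (CommRingCat.of κ) ⟶ S)
    [IsClosedImmersion c] (z : Z ⟶ S) {k' : Type u} [Field k'] (i : CohB1.ProjSpace 1 k' ⟶ Z) [hp : IsProper (i ≫ z)]
    (h : Set.range (i ≫ z) ⊆ Set.range c) :
    ∃ ψ : CohB1.ProjSpace 1 κ ⟶ Z, ψ ≫ z = CohB1.ProjSpace.toSpec 1 κ ≫ c ∧ Set.range ψ = Set.range i := by
  have hint : IsIntegral (CohB1.ProjSpace 1 k') := K711.ProjDim.isIntegral_projSpace 1 k'
  obtain ⟨g, hg⟩ := Groth.Agent.Ega1.ReducedSub.exists_factor_of_range_subset (i ≫ z) c h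
  obtain ⟨θ, hθ⟩ := exists_const g
  have h0 := Groth.Agent.S0024.result 1 k'
  have hgp : IsProper g := by
    have : IsProper (g ≫ c) := by rw [hg]; exact hp
    exact IsProper.of_comp g c
  have hnoeth : IsNoetherianRing Γ(Spec (CommRingCat.of κ), ⊤) :=
    isNoetherianRing_of_ringEquiv κ (Scheme.ΓSpecIso (CommRingCat.of κ)).commRingCatIsoToRingEquiv.symm
  have hfin : θ.Finite := by
    have h1 := Groth.Agent.FlatA.SteinNoeth.finite_appTop g
    have h2 : (CommRingCat.ofHom θ) = (Scheme.ΓSpecIso (CommRingCat.of κ)).inv ≫ g.appTop ≫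
      inv (CohB1.ProjSpace.toSpec 1 k').appTop ≫ (Scheme.ΓSpecIso (CommRingCat.of k')).hom := by
      have h3 := Scheme.ΓSpecIso_naturality (CommRingCat.ofHom θ)
      rw [hθ, Scheme.Hom.comp_appTop, Category.assoc, IsIso.hom_inv_id_assoc, h3, Iso.inv_hom_id_assoc]
    have h4 : ∀ {R R' : CommRingCat.{u}} (e : R ⟶ R') [IsIso e], e.hom.Finite := fun e _ =>
      RingHom.Finite.of_surjective _ (ConcreteCategory.bijective_of_isIso e).2
    change (CommRingCat.ofHom θ).hom.Finite
    rw [h2, CommRingCat.hom_comp, CommRingCat.hom_comp, CommRingCat.hom_comp]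
    exact (((h4 _).comp (h4 _)).comp h1).comp (h4 _)
  have hbij : Function.Bijective θ := IsAlgClosed.ringHom_bijective_of_isIntegral θ hfin.to_isIntegral
  let e : κ ≃+* k' := RingEquiv.ofBijective θ hbij
  let σ : k' →+* κ := e.symm.toRingHom
  have hσ : σ.comp θ = RingHom.id κ := RingHom.ext fun x => e.symm_apply_apply x
  have hiso : IsIso (Spec.map (CommRingCat.ofHom σ)) := by
    have : IsIso (CommRingCat.ofHom σ) := e.symm.toCommRingCatIso.isIso_hom
    infer_instance
  have hiso2 : IsIso (CohqB.ProjBC.pmap σ 1) := (CohqB.ProjBC.isPullback_pmap σ 1).isIso_fst_of_isIso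
  refine ⟨CohqB.ProjBC.pmap σ 1 ≫ i, ?_, ?_⟩
  · rw [Category.assoc, ← hg, hθ]
    simp only [Category.assoc]
    rw [CohqB.ProjBC.pmap_toSpec_assoc, ← Spec.map_comp_assoc, ← CommRingCat.ofHom_comp, hσ]
    change _ ≫ Spec.map (𝟙 _) ≫ _ = _
    rw [Spec.map_id, Category.id_comp]
  · have hs : Function.Surjective (CohqB.ProjBC.pmap σ 1) := (CohqB.ProjBC.pmap σ 1).homeomorph.surjective
    rw [Scheme.Hom.comp_base, TopCat.coe_comp, Set.range_comp, hs.range_eq, Set.image_univ]

theorem isIso_blowUp_restrict {W V : Scheme.{u}} {π : W ⟶ V} {x : V} {hx : IsClosed ({x} : Set V)}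
    (hπ : BlowUp.IsBlowUp π (pt x hx)) (U : V.Opens) (hU : x ∉ U) : IsIso (π ∣_ U) := by
  apply Divis.BlowUpFormal.isIso_morphismRestrict_compl_support hπ U
  rw [Set.disjoint_left]
  intro z hz hz'
  rw [(mem_support_pt x hx z).1 hz'] at hz
  exact hU hz

/-- The fibre of `z : Z ⟶ S` over the point `c` is preconnected and covered by projective lines over `κ`. -/
structure Cov {S Z : Scheme.{u}} {κ : Type u} [Field κ] (c : Spec (CommRingCat.of κ) ⟶ S) (z : Z ⟶ S) : Prop where
  conn : _root_.IsPreconnected (z ⁻¹' Set.range c)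
  cov : ∀ p : Z, z p ∈ Set.range c → ∃ ψ : CohB1.ProjSpace 1 κ ⟶ Z, ψ ≫ z = CohB1.ProjSpace.toSpec 1 κ ≫ c ∧
    p ∈ Set.range ψ

theorem Cov.iso {S Z Z' : Scheme.{u}} {κ : Type u} [Field κ] {c : Spec (CommRingCat.of κ) ⟶ S} {z : Z ⟶ S}
    (h : Cov c z) (e : Z' ⟶ Z) [IsIso e] {z' : Z' ⟶ S} (hz : e ≫ z = z') : Cov c z' := by
  subst hz
  refine ⟨?_, fun p hp => ?_⟩
  · have h1 : (e ≫ z) ⁻¹' Set.range c = (inv e) '' (z ⁻¹' Set.range c) := by
      ext x
      constructor
      · intro hx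
        exact ⟨e x, hx, by rw [← Scheme.Hom.comp_apply, IsIso.hom_inv_id]; rfl⟩
      · rintro ⟨y, hy, rfl⟩
        change (e ≫ z) ((inv e) y) ∈ Set.range c
        rw [← Scheme.Hom.comp_apply, IsIso.inv_hom_id_assoc]
        exact hy
    rw [h1]
    exact h.conn.image _ (inv e).continuous.continuousOn
  · obtain ⟨ψ, h1, t, ht⟩ := h.cov (e p) (by rwa [Scheme.Hom.comp_apply] at hp)
    refine ⟨ψ ≫ inv e, by simp [h1], t, ?_⟩
    rw [Scheme.Hom.comp_apply, ht, ← Scheme.Hom.comp_apply, IsIso.hom_inv_id]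
    rfl

/-- **The covering property is preserved by blowing up a regular closed point of codimension two.** -/
theorem Cov.blowUp {S Z Y : Scheme.{u}} {κ : Type u} [Field κ] [IsAlgClosed κ] {c : Spec (CommRingCat.of κ) ⟶ S}
    [IsClosedImmersion c] {z : Z ⟶ S} [IsProper z] (h : Cov c z) (b : Y ⟶ Z) [IsProper b] (x : Z)
    (hx : IsClosed ({x} : Set Z)) [IsRegularLocalRing (Z.presheaf.stalk x)]
    (hdim : ringKrullDim (Z.presheaf.stalk x) = 2) (hb : BlowUp.IsBlowUp b (pt x hx)) : Cov c (b ≫ z) := by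
  obtain ⟨i, hi, hker, -⟩ := Groth.Agent.Dix.ExcCurve.exists_curve b x hx hdim hb
  have hrange : Set.range i = b ⁻¹' {x} := by
    have h1 : closure (Set.range i) = Set.range i := i.isClosedEmbedding.isClosed_range.closure_eq
    have h2 := Scheme.Hom.support_ker i
    rw [hker, h1] at h2
    rw [← h2, Scheme.IdealSheafData.support_comap]
    ext w
    exact mem_support_pt x hx (b w)
  let _ : Field (Z.presheaf.stalk x ⧸ IsLocalRing.maximalIdeal (Z.presheaf.stalk x)) :=
    Ideal.Quotient.field _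
  have hint : IsIntegral (CohB1.ProjSpace 1 (Z.presheaf.stalk x ⧸ IsLocalRing.maximalIdeal (Z.presheaf.stalk x))) :=
    K711.ProjDim.isIntegral_projSpace 1 _
  have hV : IsIso (b ∣_ ⟨{x}ᶜ, hx.isOpen_compl⟩) := isIso_blowUp_restrict hb _ (fun h => h rfl)
  have hinj : ∀ w w' : Y, b w ≠ x → b w = b w' → w = w' := fun w w' hw h =>
    Dix.BirIso.inj b ⟨{x}ᶜ, hx.isOpen_compl⟩ hV w w' hw h
  have hcl : IsClosed (Set.range c) := c.isClosedEmbedding.isClosed_range
  have hsurj : ∀ y : Z, y ∈ Set.range b := by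
    intro y
    by_cases hy : y = x
    · have hne : (Set.range i).Nonempty := Set.range_nonempty _
      rw [hrange] at hne
      obtain ⟨w, hw⟩ := hne
      exact ⟨w, by rw [hy]; exact hw⟩
    · have h1 : Function.Surjective (b ∣_ ⟨{x}ᶜ, hx.isOpen_compl⟩) :=
        (b ∣_ ⟨{x}ᶜ, hx.isOpen_compl⟩).homeomorph.surjective
      obtain ⟨w, hw⟩ := h1 ⟨y, hy⟩
      refine ⟨w.1, ?_⟩
      have h2 := congrArg Subtype.val hw
      rwa [morphismRestrict_base_coe] at h2
  refine ⟨?_, fun p hp => ?_⟩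
  · refine isPreconnected_preimage b.isClosedMap b.continuous h.conn (hcl.preimage z.continuous) ?_ (fun y _ => hsurj y)
    intro t _
    by_cases ht : t = x
    · subst ht
      rw [← hrange]
      exact isPreconnected_range i.continuous
    · refine Set.Subsingleton.isPreconnected ?_
      intro w hw w' hw'
      exact hinj w w' (by rw [show b w = t from hw]; exact ht) ((show b w = t from hw).trans (show b w' = t from hw').symm)
  · by_cases hpx : b p = x
    · have hpi : p ∈ Set.range i := by rw [hrange]; exact hpx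
      have hsub : Set.range (i ≫ (b ≫ z)) ⊆ Set.range c := by
        rintro _ ⟨t, rfl⟩
        have h1 : i t ∈ b ⁻¹' {x} := by rw [← hrange]; exact ⟨t, rfl⟩
        have h2 : (i ≫ (b ≫ z)) t = (b ≫ z) p := by
          rw [Scheme.Hom.comp_apply, Scheme.Hom.comp_apply, Scheme.Hom.comp_apply, show b (i t) = x from h1, hpx]
        rw [h2]
        exact hp
      obtain ⟨ψ, h1, h2⟩ := exists_param c (b ≫ z) i hsub
      exact ⟨ψ, h1, by rw [h2]; exact hpi⟩
    · obtain ⟨ψ, h1, t, ht⟩ := h.cov (b p) (by rwa [Scheme.Hom.comp_apply] at hp)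
      let V : Z.Opens := ⟨{x}ᶜ, hx.isOpen_compl⟩
      have hbV : IsIso (b ∣_ V) := hV
      let U : (CohB1.ProjSpace 1 κ).Opens := ψ ⁻¹ᵁ V
      have htU : t ∈ U := by change ψ t ∈ V; rw [ht]; exact hpx
      let f : (U : Scheme.{u}) ⟶ Y := (ψ ∣_ V) ≫ inv (b ∣_ V) ≫ (b ⁻¹ᵁ V).ι
      have hfb : f ≫ b = U.ι ≫ ψ := by
        simp only [f, Category.assoc]
        rw [← morphismRestrict_ι b V, IsIso.inv_hom_id_assoc, morphismRestrict_ι]
      have hcomm : f ≫ (b ≫ z) = (U.ι ≫ CohB1.ProjSpace.toSpec 1 κ) ≫ c := by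
        rw [reassoc_of% hfb, h1, Category.assoc]
      obtain ⟨g, hg1, hg2⟩ := K888.P1Map.exists_ext_P1 (pullback.snd (b ≫ z) c) U ⟨t, htU⟩
        (pullback.lift f (U.ι ≫ CohB1.ProjSpace.toSpec 1 κ) hcomm) (pullback.lift_snd _ _ _)
      refine ⟨g ≫ pullback.fst (b ≫ z) c, ?_, t, ?_⟩
      · rw [Category.assoc, pullback.condition, ← Category.assoc, hg1]
      · have h2 : U.ι ≫ g ≫ pullback.fst (b ≫ z) c = f := by
          rw [← Category.assoc, hg2, pullback.lift_fst]
        have h3 : (g ≫ pullback.fst (b ≫ z) c) t = f ⟨t, htU⟩ := by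
          rw [← h2]; rfl
        have h4 : b ((g ≫ pullback.fst (b ≫ z) c) t) = b p := by
          rw [h3, ← Scheme.Hom.comp_apply, hfb, ← ht]; rfl
        exact hinj _ _ (by rw [h4]; exact hpx) h4

end K754.RatCov
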