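import Groth.Agent.ZCorr.K754.RatLim
import Groth.Agent.Models.DVRGeneric

/-!
# The generic point of a discrete valuation ring; limits of rational curves given on the generic fibre
-/

set_option autoImplicit false
universe u

open CategoryTheory CategoryTheory.Limits AlgebraicGeometry TopologicalSpace
open Groth.Agent K754.RatCov

namespace K754.RatGen

/-- A monomorphism from the spectrum of a field is the spectrum of the residue field of its image. -/
theorem exists_iso_fac {S : Scheme.{u}} (K : Type u) [Field K] (q : Spec (CommRingCat.of K) ⟶ S) [Mono q] (s : S)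
    (hs : q (IsLocalRing.closedPoint K) = s) :
    ∃ e : Spec (CommRingCat.of K) ≅ Spec (S.residueField s), e.hom ≫ S.fromSpecResidueField s = q := by
  subst hs
  have h0 := (Scheme.SpecToEquivOfField K S).symm_apply_apply q
  obtain ⟨b, hb⟩ : ∃ b, Spec.map b ≫ S.fromSpecResidueField (q (IsLocalRing.closedPoint K)) = q :=
    ⟨_, h0⟩
  have hm : Mono (Spec.map b ≫ S.fromSpecResidueField (q (IsLocalRing.closedPoint K))) := by rw [hb]; infer_instance
  have h1 : Mono (Spec.map b) := mono_of_mono (Spec.map b) (S.fromSpecResidueField (q (IsLocalRing.closedPoint K)))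
  have h2 : Flat (Spec.map b) := by
    rw [Flat.SpecMap_iff]
    algebraize [b.hom]
    change Module.Flat _ _
    infer_instance
  have h3 : Surjective (Spec.map b) := ⟨fun x => ⟨IsLocalRing.closedPoint K, Subsingleton.elim _ _⟩⟩
  have := Flat.isIso_of_surjective_of_mono (Spec.map b)
  exact ⟨asIso (Spec.map b), hb⟩

variable {A : Type u} [CommRing A] [IsDomain A] [IsDiscreteValuationRing A]

/-- The generic point of the spectrum of a discrete valuation ring is an open immersion. -/
theorem isOpenImmersion_fromSpecResidueField (η : ↥(Spec (CommRingCat.of A))) (hη : η.asIdeal = ⊥) :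
    IsOpenImmersion ((Spec (CommRingCat.of A)).fromSpecResidueField η) := by
  let K := FractionRing A
  have h1 : IsOpenImmersion (Spec.map (CommRingCat.ofHom (algebraMap A K))) :=
    Groth.Agent.Models.DVRGeneric.isOpenImmersion_generic A K
  have hpt : Spec.map (CommRingCat.ofHom (algebraMap A K)) (IsLocalRing.closedPoint K) = η := by
    apply PrimeSpectrum.ext
    change (IsLocalRing.maximalIdeal K).comap (algebraMap A K) = η.asIdeal
    rw [hη, IsLocalRing.maximalIdeal_eq_bot]
    exact (RingHom.injective_iff_ker_eq_bot _).mp (IsFractionRing.injective A K)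
  obtain ⟨e, he⟩ := exists_iso_fac K (Spec.map (CommRingCat.ofHom (algebraMap A K))) η hpt
  have h2 : (Spec (CommRingCat.of A)).fromSpecResidueField η = e.inv ≫ Spec.map (CommRingCat.ofHom (algebraMap A K)) := by
    rw [← he, Iso.inv_hom_id_assoc]
  rw [h2]
  infer_instance

theorem isClosed_of_asIdeal (s : ↥(Spec (CommRingCat.of A))) (hs : s.asIdeal = IsLocalRing.maximalIdeal A) :
    IsClosed ({s} : Set ↥(Spec (CommRingCat.of A))) := by
  refine (PrimeSpectrum.isClosed_singleton_iff_isMaximal _).2 ?_
  rw [hs]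
  infer_instance

theorem eq_closedPoint (s : ↥(Spec (CommRingCat.of A))) (hs : s.asIdeal = IsLocalRing.maximalIdeal A) :
    s = IsLocalRing.closedPoint A := PrimeSpectrum.ext hs

theorem eq_or_eq (η s t : ↥(Spec (CommRingCat.of A))) (hη : η.asIdeal = ⊥) (hs : s.asIdeal = IsLocalRing.maximalIdeal A) :
    t = η ∨ t = s := by
  rcases Groth.Agent.Models.DVRGeneric.eq_closedPoint_or_eq_bot A t with h | h
  · exact Or.inr (h.trans (eq_closedPoint s hs).symm)
  · exact Or.inl (PrimeSpectrum.ext (h.trans hη.symm))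

/-- The residue field at the closed point of the spectrum of a local ring. -/
theorem isAlgClosed_residueField [IsAlgClosed (IsLocalRing.ResidueField A)] (s : ↥(Spec (CommRingCat.of A)))
    (hs : s.asIdeal = IsLocalRing.maximalIdeal A) : IsAlgClosed ((Spec (CommRingCat.of A)).residueField s) := by
  have hmono : IsClosedImmersion (Spec.map (CommRingCat.ofHom (IsLocalRing.residue A))) :=
    IsClosedImmersion.spec_of_surjective _ IsLocalRing.residue_surjective
  have hpt : Spec.map (CommRingCat.ofHom (IsLocalRing.residue A)) (IsLocalRing.closedPoint (IsLocalRing.ResidueField A)) = s := by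
    apply PrimeSpectrum.ext
    change (IsLocalRing.maximalIdeal (IsLocalRing.ResidueField A)).comap (IsLocalRing.residue A) = s.asIdeal
    rw [hs, IsLocalRing.maximalIdeal_eq_bot, ← RingHom.ker_eq_comap_bot, IsLocalRing.ker_residue]
  obtain ⟨e, -⟩ := exists_iso_fac (IsLocalRing.ResidueField A) (Spec.map (CommRingCat.ofHom (IsLocalRing.residue A))) s hpt
  let e2 : (Spec (CommRingCat.of A)).residueField s ≅ CommRingCat.of (IsLocalRing.ResidueField A) :=
    { hom := Spec.preimage e.hom
      inv := Spec.preimage e.inv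
      hom_inv_id := Spec.map_injective (by simp)
      inv_hom_id := Spec.map_injective (by simp) }
  exact IsAlgClosed.of_ringEquiv (IsLocalRing.ResidueField A) _ e2.commRingCatIsoToRingEquiv.symm

/-- **Models of families of rational curves given on the generic fibre.** -/
theorem exists_model_gen [IsAlgClosed (IsLocalRing.ResidueField A)] {X : Scheme.{u}}
    (f : X ⟶ Spec (CommRingCat.of A)) (hf : RelProj.IsHProjective f) (η s : ↥(Spec (CommRingCat.of A)))
    (hη : η.asIdeal = ⊥) (hs : s.asIdeal = IsLocalRing.maximalIdeal A)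
    (φ : CohB1.ProjSpace 1 ((Spec (CommRingCat.of A)).residueField η) ⟶ X)
    (hφ : φ ≫ f = CohB1.ProjSpace.toSpec 1 ((Spec (CommRingCat.of A)).residueField η) ≫
      (Spec (CommRingCat.of A)).fromSpecResidueField η) :
    ∃ (Z : Scheme.{u}) (r : Z ⟶ CohB1.ProjSpace 1 A) (g : Z ⟶ X)
      (j : CohB1.ProjSpace 1 ((Spec (CommRingCat.of A)).residueField η) ⟶ Z), IsIntegral Z ∧ IsProper r ∧
      g ≫ f = r ≫ CohB1.ProjSpace.toSpec 1 A ∧
      Cov (κ := (Spec (CommRingCat.of A)).residueField s) ((Spec (CommRingCat.of A)).fromSpecResidueField s)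
        (r ≫ CohB1.ProjSpace.toSpec 1 A) ∧
      IsOpenImmersion j ∧ j ≫ g = φ ∧
      IsPullback (j ≫ r) (CohB1.ProjSpace.toSpec 1 ((Spec (CommRingCat.of A)).residueField η))
        (CohB1.ProjSpace.toSpec 1 A) ((Spec (CommRingCat.of A)).fromSpecResidueField η) ∧
      Set.range j = (r ≫ CohB1.ProjSpace.toSpec 1 A) ⁻¹' {η} := by
  let S := Spec (CommRingCat.of A)
  have hopen : IsOpenImmersion (S.fromSpecResidueField η) := isOpenImmersion_fromSpecResidueField η hη
  have hcl : IsClosedImmersion (S.fromSpecResidueField s) :=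
    isClosed_singleton_iff_isClosedImmersion.1 (isClosed_of_asIdeal s hs)
  have hac := isAlgClosed_residueField s hs
  let D : S.Opens := (S.fromSpecResidueField η).opensRange
  have hD : (D : Set S) = {η} := by
    change Set.range (S.fromSpecResidueField η) = {η}
    exact Scheme.range_fromSpecResidueField η
  have hne : η ≠ s := by
    intro h
    have : IsLocalRing.maximalIdeal A = ⊥ := by rw [← hs, ← hη, h]
    exact IsDiscreteValuationRing.not_a_field A this
  have hsD : IsLocalRing.closedPoint A ∉ D := by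
    rw [← eq_closedPoint s hs]
    change s ∉ (D : Set S)
    rw [hD]
    exact fun h => hne h.symm
  let κη : CommRingCat.{u} := S.residueField η
  let J : CohB1.ProjSpace 1 κη ⟶ CohB1.ProjSpace 1 A :=
    CohqB.ProjBC.pmap (Spec.preimage (S.fromSpecResidueField η)).hom 1
  have hJ : IsPullback J (CohB1.ProjSpace.toSpec 1 κη) (CohB1.ProjSpace.toSpec 1 A) (S.fromSpecResidueField η) := by
    have h1 := CohqB.ProjBC.isPullback_pmap (Spec.preimage (S.fromSpecResidueField η)).hom 1
    have h2 : Spec.map (CommRingCat.ofHom (Spec.preimage (S.fromSpecResidueField η)).hom) = S.fromSpecResidueField η :=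
      Spec.map_preimage _
    rw [h2] at h1
    exact h1
  have hJo : IsOpenImmersion J := MorphismProperty.of_isPullback hJ.flip hopen
  let U : (CohB1.ProjSpace 1 A).Opens := J.opensRange
  have hrJ : Set.range J = (CohB1.ProjSpace.toSpec 1 A) ⁻¹' {η} := by
    have h1 : hJ.isoPullback.hom ≫ pullback.fst _ _ = J := hJ.isoPullback_hom_fst
    have h2 : Function.Surjective hJ.isoPullback.hom := hJ.isoPullback.hom.homeomorph.surjective
    rw [← h1, Scheme.Hom.comp_base, TopCat.coe_comp, Set.range_comp, h2.range_eq, Set.image_univ,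
      ← Scheme.range_fromSpecResidueField η]
    exact Scheme.Pullback.range_fst _ _
  have hJU : U = CohB1.ProjSpace.toSpec 1 A ⁻¹ᵁ D := by
    apply TopologicalSpace.Opens.ext
    change Set.range J = (CohB1.ProjSpace.toSpec 1 A) ⁻¹' (D : Set S)
    rw [hrJ, hD]
  have hint : IsIntegral (CohB1.ProjSpace 1 κη) := K711.ProjDim.isIntegral_projSpace 1 _
  have hU : (U : Set (CohB1.ProjSpace 1 A)).Nonempty := Set.range_nonempty J
  let φU : (U : Scheme.{u}) ⟶ X := J.isoOpensRange.inv ≫ φ
  have hφU : φU ≫ f = U.ι ≫ CohB1.ProjSpace.toSpec 1 A := by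
    simp only [φU, Category.assoc]
    rw [hφ, ← hJ.w]
    simp [U]
  obtain ⟨Z, r, g, hZ, hr, hg, hcov, hiso, hext⟩ :=
    RatLim.exists_model (κ := S.residueField s) (S.fromSpecResidueField s) f hf U hU φU hφU
  have hrU : IsIso (r ∣_ U) := by rw [hJU]; exact hiso D hsD
  let j : CohB1.ProjSpace 1 κη ⟶ Z := J.isoOpensRange.hom ≫ inv (r ∣_ U) ≫ (r ⁻¹ᵁ U).ι
  have hjr : j ≫ r = J := by
    simp only [j, Category.assoc]
    rw [← morphismRestrict_ι, IsIso.inv_hom_id_assoc]
    exact J.isoOpensRange_hom_ι
  refine ⟨Z, r, g, j, hZ, hr, hg, hcov, inferInstance, ?_, ?_, ?_⟩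
  · simp only [j, Category.assoc]
    rw [hext, IsIso.inv_hom_id_assoc, Iso.hom_inv_id_assoc]
  · rw [hjr]
    exact hJ
  · have h1 : Set.range j = r ⁻¹' (Set.range J) := by
      have h2 : Function.Surjective (J.isoOpensRange.hom ≫ inv (r ∣_ U)) :=
        (J.isoOpensRange.hom ≫ inv (r ∣_ U)).homeomorph.surjective
      have h3 : j = (J.isoOpensRange.hom ≫ inv (r ∣_ U)) ≫ (r ⁻¹ᵁ U).ι := (Category.assoc _ _ _).symm
      rw [h3, Scheme.Hom.comp_base, TopCat.coe_comp, Set.range_comp, h2.range_eq, Set.image_univ, Scheme.Opens.range_ι]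
      rfl
    rw [h1, hrJ]
    rfl

end K754.RatGen
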