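import Groth.Agent.ZCorr.K754.RatCov
import Groth.Agent.Ega4B.RegChain
import Groth.Agent.ArSurf.K481.ElimOpen
import Groth.Agent.Models.H54.SurfGeom
import Groth.Agent.Fga.DVRGeom
import Groth.Agent.Sga5.ProjSmooth
import Groth.Prelude.Def_RelProj

/-!
# Limits of rational curves over a discrete valuation ring

`exists_model`: for a discrete valuation ring `A` with algebraically closed residue field `κ`, an H-projective `X` over
`A` and a morphism over `A` from a nonempty open subset of `P^1_A` to `X`, there is a modification `r : Z ⟶ P^1_A`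
(an isomorphism off the closed fibre) to which the morphism extends, whose closed fibre is preconnected and covered by
projective lines over `κ`.
-/

set_option autoImplicit false
universe u

open CategoryTheory CategoryTheory.Limits AlgebraicGeometry TopologicalSpace
open Groth.Agent Groth.Agent.Dix.PointIdeal Groth.Agent.Ega4B.RegChain Groth.Agent.Dix.MinusCurve
open K754.RatCov

namespace K754.RatLim

/-- The closed fibre of the projective line is a projective line. -/
theorem cov_projSpace {A κ : Type u} [CommRing A] [Field κ] (c : Spec (CommRingCat.of κ) ⟶ Spec (CommRingCat.of A)) :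
    Cov c (CohB1.ProjSpace.toSpec 1 A) := by
  obtain ⟨φ, rfl⟩ := Spec.map_surjective c
  have hpb : IsPullback (CohqB.ProjBC.pmap φ.hom 1) (CohB1.ProjSpace.toSpec 1 κ) (CohB1.ProjSpace.toSpec 1 A)
    (Spec.map φ) := CohqB.ProjBC.isPullback_pmap φ.hom 1
  have hr : Set.range (CohqB.ProjBC.pmap φ.hom 1) = (CohB1.ProjSpace.toSpec 1 A) ⁻¹' Set.range (Spec.map φ) := by
    have h1 : hpb.isoPullback.hom ≫ pullback.fst _ _ = CohqB.ProjBC.pmap φ.hom 1 := hpb.isoPullback_hom_fst
    have h2 : Function.Surjective hpb.isoPullback.hom := hpb.isoPullback.hom.homeomorph.surjective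
    rw [← h1, Scheme.Hom.comp_base, TopCat.coe_comp, Set.range_comp, h2.range_eq, Set.image_univ]
    exact Scheme.Pullback.range_fst _ _
  have hint : IsIntegral (CohB1.ProjSpace 1 κ) := K711.ProjDim.isIntegral_projSpace 1 κ
  refine ⟨?_, fun p hp => ?_⟩
  · rw [← hr]
    exact isPreconnected_range (CohqB.ProjBC.pmap φ.hom 1).continuous
  · refine ⟨CohqB.ProjBC.pmap φ.hom 1, hpb.w, ?_⟩
    rw [hr]
    exact hp

theorem isProper_left_of_isRegBlow {R : Type u} [CommRing R] {Z Z' : Over (Spec (CommRingCat.of R))} {π : Z ⟶ Z'} {z : Z'.left}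
    (hπ : IsRegBlow π z) : IsProper π.left := by
  have h1 := hπ.source.proper
  have h2 := hπ.target.proper
  have h3 : IsProper (π.left ≫ Z'.hom) := by rw [Over.w]; exact h1
  exact IsProper.of_comp π.left Z'.hom

/-- The covering property goes up along chains of blow-ups of regular surfaces. -/
theorem cov_of_rchain {R : Type u} [CommRing R] {κ : Type u} [Field κ] [IsAlgClosed κ]
    (c : Spec (CommRingCat.of κ) ⟶ Spec (CommRingCat.of R)) [IsClosedImmersion c]
    {Z X : Over (Spec (CommRingCat.of R))} {r : Z ⟶ X} {n : ℕ} (hr : RChain r n) (h : Cov c X.hom) : Cov c Z.hom := by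
  induction hr with
  | iso e he =>
    have he' : IsIso e.left := isIso_left e
    exact h.iso e.left (Over.w e)
  | step π r n z hπ hr ih =>
    have h1 := ih h
    have h2 := hπ.target.proper
    have h4 : IsProper π.left := isProper_left_of_isRegBlow hπ
    have h5 := hπ.target.regular z
    have := h1.blowUp π.left z hπ.isClosed hπ.dim_eq hπ.isBlowUp
    rwa [Over.w] at this

/-- Over a local base, chains of blow-ups are isomorphisms off the closed fibre. -/
theorem isIso_of_rchain {R : Type u} [CommRing R] [IsLocalRing R] (D : (Spec (CommRingCat.of R)).Opens)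
    (hD : IsLocalRing.closedPoint R ∉ D) {Z X : Over (Spec (CommRingCat.of R))} {r : Z ⟶ X} {n : ℕ} (hr : RChain r n) :
    IsIso (r.left ∣_ (X.hom ⁻¹ᵁ D)) := by
  induction hr with
  | iso e he =>
    have he' : IsIso e.left := isIso_left e
    infer_instance
  | step π r n z hπ hr ih =>
    rename_i Z Z' X
    have h1 : IsIso (π.left ∣_ (Z'.hom ⁻¹ᵁ D)) := by
      apply RatCov.isIso_blowUp_restrict hπ.isBlowUp
      intro hz
      apply hD
      have h2 := hπ.target.proper
      have h3 : IsClosed ({Z'.hom z} : Set (Spec (CommRingCat.of R))) := by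
        rw [← Set.image_singleton]
        exact Z'.hom.isClosedMap _ hπ.isClosed
      have h4 : Z'.hom z = IsLocalRing.closedPoint R :=
        PrimeSpectrum.ext (IsLocalRing.eq_maximalIdeal ((PrimeSpectrum.isClosed_singleton_iff_isMaximal _).1 h3))
      rw [← h4]
      exact hz
    have h5 : r.left ⁻¹ᵁ (X.hom ⁻¹ᵁ D) = Z'.hom ⁻¹ᵁ D := by
      rw [← Scheme.Hom.comp_preimage, Over.w]
    rw [← h5] at h1
    have h6 : IsIso ((π.left ≫ r.left) ∣_ (X.hom ⁻¹ᵁ D)) := by
      rw [morphismRestrict_comp]
      exact IsIso.comp_isIso' h1 ih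
    exact h6

/-- The projective line over a discrete valuation ring is a regular proper surface. -/
theorem isRegSurf_projSpace (A : Type u) [CommRing A] [IsDomain A] [IsDiscreteValuationRing A] :
    IsRegSurf A (Over.mk (CohB1.ProjSpace.toSpec 1 A)) := by
  have hs := Groth.Agent.Sga5.ProjSmooth.smooth_toSpec 1 A
  have hsm : Smooth (CohB1.ProjSpace.toSpec 1 A) := SmoothOfRelativeDimension.smooth 1 _
  have hint : IsIntegral (CohB1.ProjSpace 1 A) := K711.ProjDim.isIntegral_projSpace 1 A
  have hK : IsIntegral (CohB1.ProjSpace 1 (FractionRing A)) := K711.ProjDim.isIntegral_projSpace 1 (FractionRing A)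
  let X : Over (Spec (CommRingCat.of A)) := Over.mk (CohB1.ProjSpace.toSpec 1 A)
  have hpb : IsPullback (CohqB.ProjBC.pmap (algebraMap A (FractionRing A)) 1) (CohB1.ProjSpace.toSpec 1 (FractionRing A))
    (CohB1.ProjSpace.toSpec 1 A) (Neron.genPt A) := CohqB.ProjBC.isPullback_pmap (algebraMap A (FractionRing A)) 1
  let e : CohB1.ProjSpace 1 (FractionRing A) ≅ ((Neron.genericFibre A).obj X).left :=
    IsPullback.isoIsPullback X.left (Spec (CommRingCat.of (FractionRing A))) hpb (Groth.Agent.Dix.GenFibre.isPullback_genι X)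
  have h1 : IrreducibleSpace ((Neron.genericFibre A).obj X).left :=
    Function.Surjective.irreducibleSpace e.hom.homeomorph.continuous e.hom.homeomorph.surjective
  have h2 : topologicalKrullDim ((Neron.genericFibre A).obj X).left = 1 := by
    rw [← IsHomeomorph.topologicalKrullDim_eq e.hom.homeomorph e.hom.homeomorph.isHomeomorph]
    exact K711.ProjDim.topologicalKrullDim_projSpace 1 (FractionRing A)
  have hX : IsIntegral X.left := hint
  have hX2 : IsProper X.hom := inferInstanceAs (IsProper (CohB1.ProjSpace.toSpec 1 A))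
  have hX3 : Flat X.hom := inferInstanceAs (Flat (CohB1.ProjSpace.toSpec 1 A))
  exact ⟨fun x => Groth.Agent.Fga.DVRGeom.isRegularLocalRing_stalk (CohB1.ProjSpace.toSpec 1 A) x, hX,
    Groth.Agent.Models.H54.SurfGeom.topologicalKrullDim_eq_two X h2, hX3, hX2⟩

/-- **Resolution of the indeterminacies of a family of rational curves over a discrete valuation ring.** -/
theorem exists_model {A : Type u} [CommRing A] [IsDomain A] [IsDiscreteValuationRing A] {κ : Type u} [Field κ]
    [IsAlgClosed κ] (c : Spec (CommRingCat.of κ) ⟶ Spec (CommRingCat.of A)) [IsClosedImmersion c] {X : Scheme.{u}}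
    (f : X ⟶ Spec (CommRingCat.of A)) (hf : RelProj.IsHProjective f) (U : (CohB1.ProjSpace 1 A).Opens)
    (hU : (U : Set (CohB1.ProjSpace 1 A)).Nonempty) (φ : (U : Scheme.{u}) ⟶ X)
    (hφ : φ ≫ f = U.ι ≫ CohB1.ProjSpace.toSpec 1 A) :
    ∃ (Z : Scheme.{u}) (r : Z ⟶ CohB1.ProjSpace 1 A) (g : Z ⟶ X), IsIntegral Z ∧ IsProper r ∧
      g ≫ f = r ≫ CohB1.ProjSpace.toSpec 1 A ∧ Cov c (r ≫ CohB1.ProjSpace.toSpec 1 A) ∧
      (∀ D : (Spec (CommRingCat.of A)).Opens, IsLocalRing.closedPoint A ∉ D →
        IsIso (r ∣_ (CohB1.ProjSpace.toSpec 1 A ⁻¹ᵁ D))) ∧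
      (r ⁻¹ᵁ U).ι ≫ g = (r ∣_ U) ≫ φ := by
  let P : Over (Spec (CommRingCat.of A)) := Over.mk (CohB1.ProjSpace.toSpec 1 A)
  let X' : Over (Spec (CommRingCat.of A)) := Over.mk f
  have hP : IsRegSurf A P := isRegSurf_projSpace A
  obtain ⟨Z, r, n, g, hr, hg⟩ := K481.ElimOpen.exists_elim_open (X₁ := P) (X₂ := X') hP hf U hU φ hφ
  have hZ := hr.source hP
  have h1 := hZ.proper
  have h2 : IsProper (r.left ≫ P.hom) := by rw [Over.w]; exact h1
  have h3 : IsProper P.hom := inferInstanceAs (IsProper (CohB1.ProjSpace.toSpec 1 A))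
  refine ⟨Z.left, r.left, g.left, hZ.isIntegral, IsProper.of_comp r.left P.hom, ?_, ?_, fun D hD => isIso_of_rchain D hD hr, hg⟩
  · exact (Over.w g).trans (Over.w r).symm
  · have h4 := cov_of_rchain c hr (cov_projSpace c)
    rw [← Over.w r] at h4
    exact h4

end K754.RatLim
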