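import Groth.Agent.ZCorr.K754.RatLim
import Groth.Agent.ZCorr.K754.Chain
import Groth.Agent.Models.DVRGeneric
import Groth.Agent.Curves.K329.Limit
import Groth.Agent.S9693

/-!
# Specialization of rational curves

`rel_specialize`: over an algebraically closed field `k`, every transitive relation between the `k`-points of a
projective scheme `Y` relating the points on every morphism `P^1 ⟶ Y` is closed under specialization of rational curves
along discrete valuation rings with residue field `k`.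
-/

set_option autoImplicit false
universe u

open CategoryTheory CategoryTheory.Limits AlgebraicGeometry TopologicalSpace
open Groth.Agent K754.RatCov

namespace K754.SpecRel

/-- **Models of families of rational curves given on the generic fibre.** -/
theorem exists_model_field {A : Type u} [CommRing A] [IsDomain A] [IsDiscreteValuationRing A] {κ : Type u} [Field κ]
    [IsAlgClosed κ] (c : Spec (CommRingCat.of κ) ⟶ Spec (CommRingCat.of A)) [IsClosedImmersion c] {K : Type u} [Field K]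
    (a : Spec (CommRingCat.of K) ⟶ Spec (CommRingCat.of A)) [IsOpenImmersion a] (ha : IsLocalRing.closedPoint A ∉ Set.range a)
    {X : Scheme.{u}} (f : X ⟶ Spec (CommRingCat.of A)) (hf : RelProj.IsHProjective f)
    (φ : CohB1.ProjSpace 1 K ⟶ X) (hφ : φ ≫ f = CohB1.ProjSpace.toSpec 1 K ≫ a) :
    ∃ (Z : Scheme.{u}) (r : Z ⟶ CohB1.ProjSpace 1 A) (g : Z ⟶ X) (j : CohB1.ProjSpace 1 K ⟶ Z),
      IsIntegral Z ∧ IsProper r ∧ g ≫ f = r ≫ CohB1.ProjSpace.toSpec 1 A ∧ Cov c (r ≫ CohB1.ProjSpace.toSpec 1 A) ∧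
      j ≫ g = φ ∧ j ≫ r ≫ CohB1.ProjSpace.toSpec 1 A = CohB1.ProjSpace.toSpec 1 K ≫ a := by
  let S := Spec (CommRingCat.of A)
  let D : S.Opens := a.opensRange
  have hsD : IsLocalRing.closedPoint A ∉ D := ha
  let J : CohB1.ProjSpace 1 K ⟶ CohB1.ProjSpace 1 A := CohqB.ProjBC.pmap (Spec.preimage a).hom 1
  have hJ : IsPullback J (CohB1.ProjSpace.toSpec 1 K) (CohB1.ProjSpace.toSpec 1 A) a := by
    have h1 := CohqB.ProjBC.isPullback_pmap (Spec.preimage a).hom 1
    have h2 : Spec.map (CommRingCat.ofHom (Spec.preimage a).hom) = a := Spec.map_preimage _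
    rw [h2] at h1
    exact h1
  have hJo : IsOpenImmersion J := MorphismProperty.of_isPullback hJ.flip inferInstance
  let U : (CohB1.ProjSpace 1 A).Opens := J.opensRange
  have hrJ : Set.range J = (CohB1.ProjSpace.toSpec 1 A) ⁻¹' Set.range a := by
    have h1 : hJ.isoPullback.hom ≫ pullback.fst _ _ = J := hJ.isoPullback_hom_fst
    have h2 : Function.Surjective hJ.isoPullback.hom := hJ.isoPullback.hom.homeomorph.surjective
    rw [← h1, Scheme.Hom.comp_base, TopCat.coe_comp, Set.range_comp, h2.range_eq, Set.image_univ]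
    exact Scheme.Pullback.range_fst _ _
  have hJU : U = CohB1.ProjSpace.toSpec 1 A ⁻¹ᵁ D := TopologicalSpace.Opens.ext hrJ
  have hint : IsIntegral (CohB1.ProjSpace 1 K) := K711.ProjDim.isIntegral_projSpace 1 _
  have hU : (U : Set (CohB1.ProjSpace 1 A)).Nonempty := Set.range_nonempty J
  let φU : (U : Scheme.{u}) ⟶ X := J.isoOpensRange.inv ≫ φ
  have hφU : φU ≫ f = U.ι ≫ CohB1.ProjSpace.toSpec 1 A := by
    simp only [φU, Category.assoc]
    rw [hφ, ← hJ.w]
    simp [U]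
  obtain ⟨Z, r, g, hZ, hr, hg, hcov, hiso, hext⟩ := RatLim.exists_model c f hf U hU φU hφU
  have hrU : IsIso (r ∣_ U) := by rw [hJU]; exact hiso D hsD
  let j : CohB1.ProjSpace 1 K ⟶ Z := J.isoOpensRange.hom ≫ inv (r ∣_ U) ≫ (r ⁻¹ᵁ U).ι
  have hjr : j ≫ r = J := by
    simp only [j, Category.assoc]
    rw [← morphismRestrict_ι, IsIso.inv_hom_id_assoc]
    exact J.isoOpensRange_hom_ι
  refine ⟨Z, r, g, j, hZ, hr, hg, hcov, ?_, ?_⟩
  · simp only [j, Category.assoc]
    rw [hext, IsIso.inv_hom_id_assoc, Iso.hom_inv_id_assoc]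
  · rw [← Category.assoc, hjr]
    exact hJ.w

variable {k : Type u} [Field k] [IsAlgClosed k] {Y : Scheme.{u}} (gY : Y ⟶ Spec (CommRingCat.of k))

/-- **Specialization of rational curves.** -/
theorem rel_specialize (hY : RelProj.IsHProjective gY)
    (R : (Spec (CommRingCat.of k) ⟶ Y) → (Spec (CommRingCat.of k) ⟶ Y) → Prop)
    (htrans : ∀ u v w : Spec (CommRingCat.of k) ⟶ Y, u ≫ gY = 𝟙 _ → v ≫ gY = 𝟙 _ → w ≫ gY = 𝟙 _ → R u v → R v w → R u w)
    (hrat : ∀ ψ : CohB1.ProjSpace 1 k ⟶ Y, ψ ≫ gY = CohB1.ProjSpace.toSpec 1 k →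
      ∀ s t : Spec (CommRingCat.of k) ⟶ CohB1.ProjSpace 1 k, s ≫ CohB1.ProjSpace.toSpec 1 k = 𝟙 _ →
        t ≫ CohB1.ProjSpace.toSpec 1 k = 𝟙 _ → R (s ≫ ψ) (t ≫ ψ))
    {A K : Type u} [CommRing A] [IsDomain A] [IsDiscreteValuationRing A] [Algebra k A] [Field K] [Algebra A K]
    [IsFractionRing A K] (c : Spec (CommRingCat.of k) ⟶ Spec (CommRingCat.of A)) [IsClosedImmersion c]
    (hc : c ≫ Spec.map (CommRingCat.ofHom (algebraMap k A)) = 𝟙 _)
    (φ : CohB1.ProjSpace 1 K ⟶ Y)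
    (hφ : φ ≫ gY = CohB1.ProjSpace.toSpec 1 K ≫ Spec.map (CommRingCat.ofHom (algebraMap A K)) ≫
      Spec.map (CommRingCat.ofHom (algebraMap k A)))
    (τ₀ τ₁ : Spec (CommRingCat.of K) ⟶ CohB1.ProjSpace 1 K) (hτ₀ : τ₀ ≫ CohB1.ProjSpace.toSpec 1 K = 𝟙 _)
    (hτ₁ : τ₁ ≫ CohB1.ProjSpace.toSpec 1 K = 𝟙 _) (y₀ y₁ : Spec (CommRingCat.of A) ⟶ Y)
    (hy₀ : y₀ ≫ gY = Spec.map (CommRingCat.ofHom (algebraMap k A)))
    (hy₁ : y₁ ≫ gY = Spec.map (CommRingCat.ofHom (algebraMap k A)))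
    (e₀ : Spec.map (CommRingCat.ofHom (algebraMap A K)) ≫ y₀ = τ₀ ≫ φ)
    (e₁ : Spec.map (CommRingCat.ofHom (algebraMap A K)) ≫ y₁ = τ₁ ≫ φ) : R (c ≫ y₀) (c ≫ y₁) := by
  let S := Spec (CommRingCat.of A)
  let a : Spec (CommRingCat.of K) ⟶ S := Spec.map (CommRingCat.ofHom (algebraMap A K))
  let σ : S ⟶ Spec (CommRingCat.of k) := Spec.map (CommRingCat.ofHom (algebraMap k A))
  have hao : IsOpenImmersion a := Groth.Agent.Models.DVRGeneric.isOpenImmersion_generic A K
  have ha : IsLocalRing.closedPoint A ∉ Set.range a := by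
    rintro ⟨x, hx⟩
    have h1 : (IsLocalRing.closedPoint A).asIdeal = x.asIdeal.comap (algebraMap A K) := by rw [← hx]; rfl
    have h2 : x.asIdeal = ⊥ := (Ideal.eq_bot_or_top x.asIdeal).resolve_right x.isPrime.ne_top
    rw [h2, ← RingHom.ker_eq_comap_bot, (RingHom.injective_iff_ker_eq_bot _).mp (IsFractionRing.injective A K)] at h1
    exact IsDiscreteValuationRing.not_a_field A h1
  have hYp : IsProper gY := by
    obtain ⟨n, i, hi, hif⟩ := hY
    rw [← hif]
    infer_instance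
  -- the constant family
  let f : pullback gY σ ⟶ S := pullback.snd gY σ
  have hf : RelProj.IsHProjective f := S9693.result gY hY σ
  let φA : CohB1.ProjSpace 1 K ⟶ pullback gY σ := pullback.lift φ (CohB1.ProjSpace.toSpec 1 K ≫ a)
    (by rw [hφ, Category.assoc])
  obtain ⟨Z, r, g, j, hZ, hr, hg, hcov, hjg, hjz⟩ := exists_model_field c a ha f hf φA (pullback.lift_snd _ _ _)
  let z : Z ⟶ S := r ≫ CohB1.ProjSpace.toSpec 1 A
  have hzp : IsProper z := inferInstance
  let G : Z ⟶ Y := g ≫ pullback.fst gY σ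
  have hG : G ≫ gY = z ≫ σ := by
    simp only [G, Category.assoc]
    rw [pullback.condition, ← Category.assoc]
    exact congrArg (· ≫ σ) hg
  have hjG : j ≫ G = φ := by
    simp only [G]
    rw [← Category.assoc, hjg]
    exact pullback.lift_fst _ _ _
  have lift : ∀ (τ : Spec (CommRingCat.of K) ⟶ CohB1.ProjSpace 1 K) (_ : τ ≫ CohB1.ProjSpace.toSpec 1 K = 𝟙 _)
      (y : S ⟶ Y) (_ : y ≫ gY = σ) (_ : a ≫ y = τ ≫ φ), ∃ w : S ⟶ Z, w ≫ z = 𝟙 _ ∧ w ≫ G = y := by
    intro τ hτ y hy e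
    obtain ⟨w, hw1, hw2⟩ := K329.Limit.exists_lift (V := A) (E := K) z (τ ≫ j) (𝟙 _) (by
      have h1 : j ≫ z = CohB1.ProjSpace.toSpec 1 K ≫ a := hjz
      rw [Category.assoc, h1, ← Category.assoc, hτ, Category.id_comp, Category.comp_id])
    refine ⟨w, hw1, ?_⟩
    refine K329.Limit.ext_of_injective (algebraMap A K) (IsFractionRing.injective A K) gY (w ≫ G) y ?_ ?_
    · rw [Category.assoc, hG, hy, ← Category.assoc, hw1, Category.id_comp]
    · rw [← Category.assoc, hw2, Category.assoc, hjG]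
      exact e.symm
  obtain ⟨w₀, h₀, h₀'⟩ := lift τ₀ hτ₀ y₀ hy₀ e₀
  obtain ⟨w₁, h₁, h₁'⟩ := lift τ₁ hτ₁ y₁ hy₁ e₁
  have hsec : ∀ u : Spec (CommRingCat.of k) ⟶ Z, u ≫ z = c → (u ≫ G) ≫ gY = 𝟙 _ := by
    intro u hu
    rw [Category.assoc, hG, ← Category.assoc, hu]
    exact hc
  have key := Chain.rel_of_cov (c := c) (z := z) hcov (fun u v => R (u ≫ G) (v ≫ G))
    (fun u v w hu hv hw h1 h2 => htrans _ _ _ (hsec u hu) (hsec v hv) (hsec w hw) h1 h2)
    (fun ψ hψ s t hs ht => by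
      have h1 : (ψ ≫ G) ≫ gY = CohB1.ProjSpace.toSpec 1 k := by
        rw [Category.assoc, hG, ← Category.assoc, hψ, Category.assoc]
        exact (congrArg (CohB1.ProjSpace.toSpec 1 k ≫ ·) hc).trans (Category.comp_id _)
      have h2 := hrat (ψ ≫ G) h1 s t hs ht
      simpa only [Category.assoc] using h2)
    (c ≫ w₀) (c ≫ w₁) (by rw [Category.assoc, h₀, Category.comp_id]) (by rw [Category.assoc, h₁, Category.comp_id])
  simpa only [Category.assoc, h₀', h₁'] using key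

end K754.SpecRel
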