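import Groth.Agent.ZCorr.K754.SymRel

/-!
# Rational equivalence of points of symmetric products: the forward direction

* `exists_link`: rationally equivalent points of a fibre power are linked by a rational curve in a symmetric product.
* `link_succ`: raising the degree of a link.
-/

set_option autoImplicit false
universe u

open CategoryTheory CategoryTheory.Limits AlgebraicGeometry TopologicalSpace
open Groth.Agent K952.Basic K952.Pts

namespace K754.SymFwd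

open SymPt SymCnt SymRel K952 K952.P1Core Groth.Agent.CycA.MovRatZ K952.P1Sym K952.P1Fam K952.FamRat K952.P1Graph
open K952.ExtPt AlgEqCyc

/-- the first block of indices -/
def i1 (d m : ℕ) : Fin d → Fin (d + d + m) := fun i => Fin.castAdd m (Fin.castAdd d i)
/-- the second block of indices -/
def i2 (d m : ℕ) : Fin d → Fin (d + d + m) := fun i => Fin.castAdd m (Fin.natAdd d i)
/-- the third block of indices -/
def i3 (d m : ℕ) : Fin m → Fin (d + d + m) := fun i => Fin.natAdd (d + d) i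
/-- first and third -/
def i13 (d m : ℕ) : Fin (d + m) → Fin (d + d + m) := Fin.append (i1 d m) (i3 d m)
/-- second and third -/
def i23 (d m : ℕ) : Fin (d + m) → Fin (d + d + m) := Fin.append (i2 d m) (i3 d m)

variable {k : Type u} [Field k] {X : Scheme.{u}} (p : X ⟶ Spec (CommRingCat.of k))

local notation "qP" => CohB1.ProjSpace.toSpec 1 k

/-- three points give a point of the big fibre power -/
theorem exists_join {d m : ℕ} (x x' : Spec (CommRingCat.of k) ⟶ SymProd.fibPow p d)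
    (z : Spec (CommRingCat.of k) ⟶ SymProd.fibPow p m)
    (hx : x ≫ WidePullback.base (fun _ => p) = 𝟙 _) (hx' : x' ≫ WidePullback.base (fun _ => p) = 𝟙 _)
    (hz : z ≫ WidePullback.base (fun _ => p) = 𝟙 _) :
    ∃ b : Spec (CommRingCat.of k) ⟶ SymProd.fibPow p (d + d + m), b ≫ WidePullback.base (fun _ => p) = 𝟙 _ ∧
      b ≫ rx p (i1 d m) = x ∧ b ≫ rx p (i2 d m) = x' ∧ b ≫ rx p (i3 d m) = z := by
  let c : Fin (d + d + m) → (Spec (CommRingCat.of k) ⟶ X) :=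
    Fin.append (Fin.append (fun i => x ≫ WidePullback.π (fun _ => p) i) (fun i => x' ≫ WidePullback.π (fun _ => p) i))
      (fun i => z ≫ WidePullback.π (fun _ => p) i)
  have hc : ∀ i, c i ≫ p = 𝟙 _ := by
    intro i
    refine Fin.addCases (fun i => ?_) (fun i => ?_) i
    · refine Fin.addCases (fun i => ?_) (fun i => ?_) i
      · simp only [c, Fin.append_left]
        exact section_π p x hx i
      · simp only [c, Fin.append_left, Fin.append_right]
        exact section_π p x' hx' i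
    · simp only [c, Fin.append_right]
      exact section_π p z hz i
  let b : Spec (CommRingCat.of k) ⟶ SymProd.fibPow p (d + d + m) := WidePullback.lift (𝟙 _) c hc
  have hb : ∀ i, b ≫ WidePullback.π (fun _ => p) i = c i := fun i => WidePullback.lift_π _ _ _ _ i
  have hb0 : b ≫ WidePullback.base (fun _ => p) = 𝟙 _ := WidePullback.lift_base _ _ _ _
  refine ⟨b, hb0, ?_, ?_, ?_⟩
  · apply WidePullback.hom_ext
    · intro i
      rw [Category.assoc, rx_π, hb]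
      simp only [c, i1, Fin.append_left]
    · rw [Category.assoc, rx_base, hb0, hx]
  · apply WidePullback.hom_ext
    · intro i
      rw [Category.assoc, rx_π, hb]
      simp only [c, i2, Fin.append_left, Fin.append_right]
    · rw [Category.assoc, rx_base, hb0, hx']
  · apply WidePullback.hom_ext
    · intro i
      rw [Category.assoc, rx_π, hb]
      simp only [c, i3, Fin.append_right]
    · rw [Category.assoc, rx_base, hb0, hz]

theorem cnt_i13 {d m : ℕ} (b : Spec (CommRingCat.of k) ⟶ SymProd.fibPow p (d + d + m)) (x : X) :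
    cnt p (b ≫ rx p (i13 d m)) x = cnt p (b ≫ rx p (i1 d m)) x + cnt p (b ≫ rx p (i3 d m)) x :=
  cnt_append p _ _ b x

theorem cnt_i23 {d m : ℕ} (b : Spec (CommRingCat.of k) ⟶ SymProd.fibPow p (d + d + m)) (x : X) :
    cnt p (b ≫ rx p (i23 d m)) x = cnt p (b ≫ rx p (i2 d m)) x + cnt p (b ≫ rx p (i3 d m)) x :=
  cnt_append p _ _ b x

theorem cnt_sub {d m : ℕ} (b : Spec (CommRingCat.of k) ⟶ SymProd.fibPow p (d + d + m)) :
    cnt p (b ≫ rx p (i13 d m)) - cnt p (b ≫ rx p (i23 d m)) =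
      cnt p (b ≫ rx p (i1 d m)) - cnt p (b ≫ rx p (i2 d m)) := by
  funext x
  rw [Pi.sub_apply, Pi.sub_apply, cnt_i13, cnt_i23]
  ring

/-- A link between two points of the fibre power by a rational curve in a symmetric product. -/
structure IsLink (Sy : ℕ → Scheme.{u}) (qs : (n : ℕ) → (SymProd.fibPow p n ⟶ Sy n))
    (gs : (n : ℕ) → (Sy n ⟶ Spec (CommRingCat.of k))) (d m : ℕ)
    (b : Spec (CommRingCat.of k) ⟶ SymProd.fibPow p (d + d + m)) (f : CohB1.ProjSpace 1 k ⟶ Sy (d + m)) : Prop where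
  base : b ≫ WidePullback.base (fun _ => p) = 𝟙 _
  ov : f ≫ gs (d + m) = qP
  zero : tp k 0 ≫ f = b ≫ rx p (i13 d m) ≫ qs (d + m)
  one : tp k 1 ≫ f = b ≫ rx p (i23 d m) ≫ qs (d + m)

theorem ins_rx (x₀ : Spec (CommRingCat.of k) ⟶ X) (h₀ : x₀ ≫ p = 𝟙 _) {a n : ℕ} (φ : Fin a → Fin n)
    (φ' : Fin (a + 1) → Fin (n + 1)) (h1 : φ' (Fin.last a) = Fin.last n)
    (h2 : ∀ j : Fin a, φ' j.castSucc = (φ j).castSucc) :
    ins p x₀ h₀ n ≫ rx p φ' = rx p φ ≫ ins p x₀ h₀ a := by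
  apply WidePullback.hom_ext
  · intro i
    rw [Category.assoc, rx_π, Category.assoc]
    refine Fin.lastCases ?_ (fun j => ?_) i
    · rw [h1, ins_π_last, ins_π_last, ← Category.assoc, rx_base]
    · rw [ins_π_castSucc, rx_π, h2, ins_π_castSucc]
  · rw [Category.assoc, Category.assoc, rx_base, ins_base, ins_base, rx_base]

theorem append_last {d m n : ℕ} (φ : Fin d → Fin (n + 1)) (ψ : Fin (m + 1) → Fin (n + 1))
    (h1 : ψ (Fin.last m) = Fin.last n) :
    (Fin.append φ ψ : Fin (d + (m + 1)) → Fin (n + 1)) (Fin.last (d + m) : Fin (d + m + 1)) = Fin.last n := by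
  have h2 : (Fin.last (d + m) : Fin (d + (m + 1))) = Fin.natAdd d (Fin.last m) := rfl
  change (Fin.append φ ψ : Fin (d + (m + 1)) → Fin (n + 1)) (Fin.last (d + m) : Fin (d + (m + 1))) = _
  rw [h2, Fin.append_right, h1]

theorem append_castSucc {d m n : ℕ} (φ' : Fin d → Fin (n + 1)) (ψ' : Fin (m + 1) → Fin (n + 1))
    (φ : Fin d → Fin n) (ψ : Fin m → Fin n) (h1 : ∀ j, φ' j = (φ j).castSucc) (h2 : ∀ j : Fin m, ψ' j.castSucc = (ψ j).castSucc)
    (j : Fin (d + m)) :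
    (Fin.append φ' ψ' : Fin (d + (m + 1)) → Fin (n + 1)) (j.castSucc : Fin (d + m + 1)) = (Fin.append φ ψ j).castSucc := by
  refine Fin.addCases (fun j => ?_) (fun j => ?_) j
  · have h3 : (Fin.castSucc (Fin.castAdd m j) : Fin (d + (m + 1))) = Fin.castAdd (m + 1) j := rfl
    change (Fin.append φ' ψ' : Fin (d + (m + 1)) → Fin (n + 1)) (Fin.castSucc (Fin.castAdd m j) : Fin (d + (m + 1))) = _
    rw [h3, Fin.append_left, Fin.append_left, h1]
  · have h3 : (Fin.castSucc (Fin.natAdd d j) : Fin (d + (m + 1))) = Fin.natAdd d (Fin.castSucc j) := rfl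
    change (Fin.append φ' ψ' : Fin (d + (m + 1)) → Fin (n + 1)) (Fin.castSucc (Fin.natAdd d j) : Fin (d + (m + 1))) = _
    rw [h3, Fin.append_right, Fin.append_right, h2]

variable [IsProper p] [IsAlgClosed k] [CharZero k]

theorem exists_map {α β : AlgebraicCycle X ℤ} (hβ : ∀ x, β x ≠ 0 → dm p x = 0) (hβ0 : ∀ x, 0 ≤ β x) (d : ℕ)
    (hβd : ∑ᶠ x, β x = (d : ℤ)) (h : Cyc.RatEquiv (fun x => (dm p x : ℤ)) 0 α β)
    (Sy : ℕ → Scheme.{u}) (qs : (n : ℕ) → (SymProd.fibPow p n ⟶ Sy n))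
    (gs : (n : ℕ) → (Sy n ⟶ Spec (CommRingCat.of k)))
    (hS : ∀ n, SymProd.IsSymProd p n (qs n) (gs n)) :
    ∃ (m : ℕ) (γ : X → ℤ), (Function.support γ).Finite ∧ (∀ x, γ x ≠ 0 → dm p x = 0) ∧ (∀ x, 0 ≤ γ x) ∧
      ∑ᶠ x, γ x = (m : ℤ) ∧
        ∃ (f : CohB1.ProjSpace 1 k ⟶ Sy (d + m)),
          f ≫ gs (d + m) = qP ∧
          ZCorr.IsCycleOfSymPt p (d + m) (qs (d + m)) (tp k 0 ≫ f) (⇑α + γ) ∧
          ZCorr.IsCycleOfSymPt p (d + m) (qs (d + m)) (tp k 1 ≫ f) (⇑β + γ) := by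
  have hcX : CompactSpace X := QuasiCompact.compactSpace_of_compactSpace p
  have hcP := compactSpace_P1 k
  obtain ⟨Γ, V, h1, h2, h3, h4, h5, h6, h7, h8⟩ := exists_gamma p hβ hβ0 h
  have hflat : ∀ ξ, Γ ξ ≠ 0 → ∀ (z : ↥(pullback p qP)) (h : ξ ⤳ z),
      ((Ideal.Quotient.mk (RingHom.ker (Cyc.specMap z ξ h))).comp
        ((pullback.snd p qP).stalkMap z).hom).Flat := fun ξ hξ z h' =>
    flat_P1 (pullback.snd p qP) (h2 ξ hξ) z h'
  obtain ⟨D, hD⟩ := deg_const p qP (integrallyClosed_P1 k) Γ h1 h2 h3 hflat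
  have hVnn : 0 ≤ ∑ᶠ x, V x := finsum_nonneg h4
  obtain ⟨m, hm⟩ := Int.eq_ofNat_of_zero_le hVnn
  have hDm : (D : ℤ) = ((d + m : ℕ) : ℤ) := by
    rw [← hD (tp k 1) (tp_toSpec k 1), finsum_congr h8,
      finsum_add_distrib (FibCycle.finite_support β) h5, hβd, hm]
    push_cast
    rfl
  obtain ⟨F, hF1, hF2⟩ := SymFam.main p qP (integrallyClosed_P1 k) (d + m) (qs (d + m))
    (gs (d + m)) (hS (d + m)) Γ h1 h2 h3 hflat (fun u hu => (hD u hu).trans hDm)
  refine ⟨m, V, h5, h6, h4, hm, F, hF1, ?_, ?_⟩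
  · have h9 : ⇑α + V = fibreFun p qP Γ (tp k 0) (tp_toSpec k 0) := by
      funext x
      rw [h7]
      rfl
    rw [h9]
    exact hF2 _ _
  · have h9 : ⇑β + V = fibreFun p qP Γ (tp k 1) (tp_toSpec k 1) := by
      funext x
      rw [h8]
      rfl
    rw [h9]
    exact hF2 _ _

variable {Sy : ℕ → Scheme.{u}} {qs : (n : ℕ) → (SymProd.fibPow p n ⟶ Sy n)}
  {gs : (n : ℕ) → (Sy n ⟶ Spec (CommRingCat.of k))} (hS : ∀ n, SymProd.IsSymProd p n (qs n) (gs n))

include hS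

/-- Rationally equivalent points of a fibre power are linked. -/
theorem exists_link {d : ℕ} (x x' : Spec (CommRingCat.of k) ⟶ SymProd.fibPow p d)
    (hx : x ≫ WidePullback.base (fun _ => p) = 𝟙 _) (hx' : x' ≫ WidePullback.base (fun _ => p) = 𝟙 _)
    (h : (cnt p x - cnt p x' : X → ℤ) ∈ RZ p) :
    ∃ (m : ℕ) (b : Spec (CommRingCat.of k) ⟶ SymProd.fibPow p (d + d + m)) (f : CohB1.ProjSpace 1 k ⟶ Sy (d + m)),
      IsLink p Sy qs gs d m b f ∧ b ≫ rx p (i1 d m) = x ∧ b ≫ rx p (i2 d m) = x' := by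
  obtain ⟨α, hα⟩ := exists_cycle p x
  obtain ⟨β, hβ⟩ := exists_cycle p x'
  rw [← hα, ← hβ, ← ratEquiv_iff] at h
  obtain ⟨m, γ, h1, h2, h3, h4, f, h5, ⟨t₀, ht₀, ht₀'⟩, ⟨t₁, ht₁, ht₁'⟩⟩ := exists_map p (fun y hy => by
    rw [hβ] at hy
    exact dm_eq_zero p x' hx' y hy) (fun y => by rw [hβ]; exact cnt_nonneg p x' y) d (by rw [hβ]; exact sum_cnt p x')
    h Sy qs gs hS
  obtain ⟨z, hz, hz'⟩ := exists_pt p h1 h2 h3 m h4
  obtain ⟨b, hb, hb1, hb2, hb3⟩ := exists_join p x x' z hx hx' hz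
  have hb13 : cnt p (b ≫ rx p (i13 d m)) = cnt p t₀ := by
    funext y
    rw [cnt_i13, hb1, hb3, hz', ← hα]
    exact ht₀' y
  have hb23 : cnt p (b ≫ rx p (i23 d m)) = cnt p t₁ := by
    funext y
    rw [cnt_i23, hb2, hb3, hz', ← hβ]
    exact ht₁' y
  have hbase : ∀ {a : ℕ} (φ : Fin a → Fin (d + d + m)), (b ≫ rx p φ) ≫ WidePullback.base (fun _ => p) = 𝟙 _ := by
    intro a φ
    rw [Category.assoc, rx_base, hb]
  refine ⟨m, b, f, ⟨hb, h5, ?_, ?_⟩, hb1, hb2⟩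
  · rw [← ht₀, ← Category.assoc]
    refine (comp_eq_of_cnt_eq p (hS (d + m)) _ _ (hbase _) ?_ hb13).symm
    rw [← (hS (d + m)).over, ← Category.assoc, ht₀, Category.assoc, h5, tp_toSpec]
  · rw [← ht₁, ← Category.assoc]
    refine (comp_eq_of_cnt_eq p (hS (d + m)) _ _ (hbase _) ?_ hb23).symm
    rw [← (hS (d + m)).over, ← Category.assoc, ht₁, Category.assoc, h5, tp_toSpec]

/-- Linked points are rationally equivalent. -/
theorem mem_of_link {d m : ℕ} {b : Spec (CommRingCat.of k) ⟶ SymProd.fibPow p (d + d + m)}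
    {f : CohB1.ProjSpace 1 k ⟶ Sy (d + m)} (hl : IsLink p Sy qs gs d m b f) :
    (cnt p (b ≫ rx p (i1 d m)) - cnt p (b ≫ rx p (i2 d m)) : X → ℤ) ∈ RZ p := by
  rw [← cnt_sub]
  refine srel_of_map p (hS (d + m)) f hl.ov (tp k 0) (tp k 1) (tp_toSpec k 0) (tp_toSpec k 1) _ _ ?_ ?_ ?_ ?_
  · rw [Category.assoc, rx_base, hl.base]
  · rw [Category.assoc, rx_base, hl.base]
  · rw [Category.assoc, hl.zero]
  · rw [Category.assoc, hl.one]

omit [IsProper p] [IsAlgClosed k] [CharZero k] in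
/-- Raising the degree of a link. -/
theorem link_succ (x₀ : Spec (CommRingCat.of k) ⟶ X) (h₀ : x₀ ≫ p = 𝟙 _) {d m : ℕ}
    {b : Spec (CommRingCat.of k) ⟶ SymProd.fibPow p (d + d + m)}
    {f : CohB1.ProjSpace 1 k ⟶ Sy (d + m)} (hl : IsLink p Sy qs gs d m b f) :
    ∃ (b' : Spec (CommRingCat.of k) ⟶ SymProd.fibPow p (d + d + (m + 1))) (f' : CohB1.ProjSpace 1 k ⟶ Sy (d + (m + 1))),
      IsLink p Sy qs gs d (m + 1) b' f' ∧ b' ≫ rx p (i1 d (m + 1)) = b ≫ rx p (i1 d m) ∧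
        b' ≫ rx p (i2 d (m + 1)) = b ≫ rx p (i2 d m) := by
  obtain ⟨τ, hτ, hτ'⟩ := exists_tr p x₀ h₀ (d + m) (hS (d + m)) (hS (d + m + 1))
  let b' : Spec (CommRingCat.of k) ⟶ SymProd.fibPow p (d + d + (m + 1)) := b ≫ ins p x₀ h₀ (d + d + m)
  have e1 : ins p x₀ h₀ (d + d + m) ≫ rx p (i1 d (m + 1)) = rx p (i1 d m) := by
    apply WidePullback.hom_ext
    · intro i
      rw [Category.assoc, rx_π, rx_π]
      exact ins_π_castSucc p x₀ h₀ (d + d + m) (i1 d m i)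
    · rw [Category.assoc, rx_base, rx_base, ins_base]
  have e2 : ins p x₀ h₀ (d + d + m) ≫ rx p (i2 d (m + 1)) = rx p (i2 d m) := by
    apply WidePullback.hom_ext
    · intro i
      rw [Category.assoc, rx_π, rx_π]
      exact ins_π_castSucc p x₀ h₀ (d + d + m) (i2 d m i)
    · rw [Category.assoc, rx_base, rx_base, ins_base]
  have e13 : ins p x₀ h₀ (d + d + m) ≫ rx p (a := d + m + 1) (i13 d (m + 1)) = rx p (i13 d m) ≫ ins p x₀ h₀ (d + m) :=
    ins_rx p x₀ h₀ _ _ (append_last _ _ rfl) (append_castSucc _ _ _ _ (fun _ => rfl) (fun _ => rfl))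
  have e23 : ins p x₀ h₀ (d + d + m) ≫ rx p (a := d + m + 1) (i23 d (m + 1)) = rx p (i23 d m) ≫ ins p x₀ h₀ (d + m) :=
    ins_rx p x₀ h₀ _ _ (append_last _ _ rfl) (append_castSucc _ _ _ _ (fun _ => rfl) (fun _ => rfl))
  refine ⟨b', f ≫ τ, ⟨?_, ?_, ?_, ?_⟩, ?_, ?_⟩
  · exact (Category.assoc _ _ _).trans ((congrArg (b ≫ ·) (ins_base p x₀ h₀ (d + d + m))).trans hl.base)
  · rw [Category.assoc]
    exact (congrArg (f ≫ ·) hτ').trans hl.ov
  · rw [← Category.assoc, hl.zero]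
    simp only [Category.assoc, hτ, b']
    rw [← Category.assoc (rx p (i13 d m)), ← e13]
    simp only [Category.assoc]
    rfl
  · rw [← Category.assoc, hl.one]
    simp only [Category.assoc, hτ, b']
    rw [← Category.assoc (rx p (i23 d m)), ← e23]
    simp only [Category.assoc]
    rfl
  · exact (Category.assoc _ _ _).trans (congrArg (b ≫ ·) e1)
  · exact (Category.assoc _ _ _).trans (congrArg (b ≫ ·) e2)

omit [IsProper p] [IsAlgClosed k] [CharZero k] in
theorem link_le (x₀ : Spec (CommRingCat.of k) ⟶ X) (h₀ : x₀ ≫ p = 𝟙 _) {d m : ℕ} (m' : ℕ) (hm : m ≤ m')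
    {b : Spec (CommRingCat.of k) ⟶ SymProd.fibPow p (d + d + m)}
    {f : CohB1.ProjSpace 1 k ⟶ Sy (d + m)} (hl : IsLink p Sy qs gs d m b f) :
    ∃ (b' : Spec (CommRingCat.of k) ⟶ SymProd.fibPow p (d + d + m')) (f' : CohB1.ProjSpace 1 k ⟶ Sy (d + m')),
      IsLink p Sy qs gs d m' b' f' ∧ b' ≫ rx p (i1 d m') = b ≫ rx p (i1 d m) ∧
        b' ≫ rx p (i2 d m') = b ≫ rx p (i2 d m) := by
  induction m', hm using Nat.le_induction with
  | base => exact ⟨b, f, hl, rfl, rfl⟩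
  | succ m' _ ih =>
    obtain ⟨b', f', hl', h1, h2⟩ := ih
    obtain ⟨b'', f'', hl'', h3, h4⟩ := link_succ p hS x₀ h₀ hl'
    exact ⟨b'', f'', hl'', h3.trans h1, h4.trans h2⟩

end K754.SymFwd
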