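import Groth.Agent.ZCorr.K754.FamOps
import Groth.Agent.ZCorr.K754.BaireFin

/-!
# The locus of rationally equivalent pairs in the square of a symmetric product
-/

set_option autoImplicit false
universe u

open CategoryTheory CategoryTheory.Limits AlgebraicGeometry TopologicalSpace
open Groth.Agent K952.Basic K952.Pts

namespace K754.SymLocus

open SymPt SymCnt SymRel SymFwd LinkSpec SymProj LinkFam FamOps K952 K952.P1Core Groth.Agent.CycA.MovRatZ

variable {k : Type u} [Field k]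

/-- Lifting rational points along morphisms of finite type. -/
theorem exists_lift_point [IsAlgClosed k] {T P : Scheme.{u}} (gP : P ⟶ Spec (CommRingCat.of k)) [IsSeparated gP]
    [LocallyOfFiniteType gP] (f : T ⟶ P) [LocallyOfFiniteType f] (C : Set T) (hC : IsClosed C)
    (c : Spec (CommRingCat.of k) ⟶ P) (hc : c ≫ gP = 𝟙 _) (h : c (IsLocalRing.closedPoint k) ∈ f '' C) :
    ∃ t : Spec (CommRingCat.of k) ⟶ T, t ≫ f = c ∧ t (IsLocalRing.closedPoint k) ∈ C := by
  have hJ : JacobsonSpace T := LocallyOfFiniteType.jacobsonSpace (f ≫ gP)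
  obtain ⟨z, hzC, hz⟩ := h
  have hcl : IsClosed ({c (IsLocalRing.closedPoint k)} : Set P) := SymCnt.isClosed_section gP c hc
  obtain ⟨y, ⟨hyC, hy⟩, hyc⟩ := nonempty_inter_closedPoints (X := T) (Z := C ∩ f ⁻¹' {c (IsLocalRing.closedPoint k)})
    ⟨z, hzC, hz⟩ ((hC.inter (hcl.preimage f.continuous)).isLocallyClosed)
  have h1 : pointOfClosedPoint (f ≫ gP) y hyc (IsLocalRing.closedPoint k) = y := pointOfClosedPoint_apply _ _ _ _
  refine ⟨pointOfClosedPoint (f ≫ gP) y hyc, ?_, ?_⟩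
  · refine Groth.Agent.Sga7.H270.FinPts.section_ext gP _ _ ?_ hc ?_
    · rw [Category.assoc]
      exact pointOfClosedPoint_comp _ _ _
    · rw [Scheme.Hom.comp_apply, h1]
      exact hy
  · rw [h1]
    exact hyC

variable {X : Scheme.{u}} {p : X ⟶ Spec (CommRingCat.of k)}
  {Sy : ℕ → Scheme.{u}} {qs : (n : ℕ) → (SymProd.fibPow p n ⟶ Sy n)}
  {gs : (n : ℕ) → (Sy n ⟶ Spec (CommRingCat.of k))} (hS : ∀ n, SymProd.IsSymProd p n (qs n) (gs n))

/-- The projection to the square of the symmetric product. -/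
noncomputable def ρ (d m : ℕ) : SymProd.fibPow p (d + d + m) ⟶ pullback (gs d) (gs d) :=
  pullback.lift (rx p (i1 d m) ≫ qs d) (rx p (i2 d m) ≫ qs d) (by
    rw [Category.assoc, Category.assoc, (hS d).over, rx_base, rx_base])

theorem ρ_fst (d m : ℕ) : ρ hS d m ≫ pullback.fst (gs d) (gs d) = rx p (i1 d m) ≫ qs d := pullback.lift_fst _ _ _

theorem ρ_snd (d m : ℕ) : ρ hS d m ≫ pullback.snd (gs d) (gs d) = rx p (i2 d m) ≫ qs d := pullback.lift_snd _ _ _

theorem ρ_base (d m : ℕ) : ρ hS d m ≫ pullback.fst (gs d) (gs d) ≫ gs d = WidePullback.base (fun _ => p) := by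
  rw [← Category.assoc, ρ_fst, Category.assoc, (hS d).over, rx_base]

variable (p qs gs) in
/-- Pairs of rationally equivalent cycles. -/
def RatPt (d : ℕ) (c : Spec (CommRingCat.of k) ⟶ pullback (gs d) (gs d)) : Prop :=
  ∃ x x' : Spec (CommRingCat.of k) ⟶ SymProd.fibPow p d, x ≫ WidePullback.base (fun _ => p) = 𝟙 _ ∧
    x' ≫ WidePullback.base (fun _ => p) = 𝟙 _ ∧ x ≫ qs d = c ≫ pullback.fst _ _ ∧ x' ≫ qs d = c ≫ pullback.snd _ _ ∧
    (cnt p x - cnt p x' : X → ℤ) ∈ RZ p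

variable [IsAlgClosed k] [CharZero k] (hX : RelProj.IsHProjective p)

include hX

theorem exists_link_of_ratPt {d : ℕ} {c : Spec (CommRingCat.of k) ⟶ pullback (gs d) (gs d)} (hc : RatPt p qs gs d c) :
    ∃ (m : ℕ) (b : Spec (CommRingCat.of k) ⟶ SymProd.fibPow p (d + d + m)) (f : CohB1.ProjSpace 1 k ⟶ Sy (d + m)),
      IsLink p Sy qs gs d m b f ∧ b ≫ ρ hS d m = c := by
  have hpp := MorFam.isProper_of_isHProjective hX
  obtain ⟨x, x', hx, hx', h1, h2, h3⟩ := hc
  obtain ⟨m, b, f, hl, hb1, hb2⟩ := exists_link p hS x x' hx hx' h3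
  refine ⟨m, b, f, hl, ?_⟩
  apply pullback.hom_ext
  · rw [Category.assoc, ρ_fst, ← Category.assoc, hb1, h1]
  · rw [Category.assoc, ρ_snd, ← Category.assoc, hb2, h2]

/-- The closure of the image of a family of links consists of pairs of rationally equivalent cycles. -/
theorem ratPt_of_mem_closure {d m : ℕ} (F : Fam p Sy qs gs d m) (c : Spec (CommRingCat.of k) ⟶ pullback (gs d) (gs d))
    (hc : c ≫ pullback.fst (gs d) (gs d) ≫ gs d = 𝟙 _)
    (hcl : c (IsLocalRing.closedPoint k) ∈ closure (Set.range (F.b ≫ ρ hS d m))) : RatPt p qs gs d c := by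
  have hpp := MorFam.isProper_of_isHProjective hX
  have hY := isHProjective_sym p hX (hS (d + m))
  have hYp := MorFam.isProper_of_isHProjective hY
  have hYd := MorFam.isProper_of_isHProjective (isHProjective_sym p hX (hS d))
  let gB : SymProd.fibPow p (d + d + m) ⟶ Spec (CommRingCat.of k) := WidePullback.base (fun _ => p)
  let gP : pullback (gs d) (gs d) ⟶ Spec (CommRingCat.of k) := pullback.fst (gs d) (gs d) ≫ gs d
  have hBp : IsProper gB := MorFam.isProper_of_isHProjective (isHProjective_fibPow p hX (d + d + m))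
  have hρp : IsProper (ρ hS d m) := by
    have : IsProper (ρ hS d m ≫ gP) := by rw [ρ_base]; exact hBp
    exact IsProper.of_comp (ρ hS d m) gP
  have h1 : c (IsLocalRing.closedPoint k) ∈ ρ hS d m '' closure (Set.range F.b) := by
    have h2 : IsClosed (ρ hS d m '' closure (Set.range F.b)) := (ρ hS d m).isClosedMap _ isClosed_closure
    refine closure_minimal ?_ h2 hcl
    rintro _ ⟨x, rfl⟩
    exact ⟨F.b x, subset_closure ⟨x, rfl⟩, rfl⟩
  obtain ⟨b₀, hb₀, hb₁⟩ := exists_lift_point gP (ρ hS d m) _ isClosed_closure c hc h1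
  have hb₀' : b₀ ≫ gB = 𝟙 _ := by
    have : b₀ ≫ ρ hS d m ≫ gP = b₀ ≫ gB := by rw [ρ_base]
    rw [← this, ← Category.assoc, hb₀, hc]
  have hτ1 : LocallyOfFiniteType F.τ := K642.HQProj.locallyOfFiniteType F.qproj
  have hτ2 : QuasiCompact F.τ := by
    obtain ⟨n, i, hi, hc, hif⟩ := F.qproj
    rw [← hif]
    infer_instance
  have hover : ∀ {n : ℕ} (φ : Fin n → Fin (d + d + m)), (rx p φ ≫ qs n) ≫ gs n = gB := by
    intro n φ
    rw [Category.assoc, (hS n).over, rx_base]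
  have hbase : ∀ {n : ℕ} (φ : Fin n → Fin (d + d + m)), (b₀ ≫ rx p φ) ≫ WidePullback.base (fun _ => p) = 𝟙 _ := by
    intro n φ
    rw [Category.assoc, rx_base]
    exact hb₀'
  have h3 := rel_of_mem_closure (gs (d + m)) hY (SRel p (qs (d + m)))
    (fun u v w _ hv _ h1 h2 => srel_trans p (hS (d + m)) u v w hv h1 h2)
    (fun ψ hψ s t hs ht => srel_of_map p (hS (d + m)) ψ hψ s t hs ht) gB (rx p (i13 d m) ≫ qs (d + m))
    (rx p (i23 d m) ≫ qs (d + m)) (hover _) (hover _) (tp k 0) (tp k 1) (tp_toSpec k 0) (tp_toSpec k 1) F.τ F.b F.hb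
    F.h F.hh F.e₀ F.e₁ b₀ hb₀' hb₁
  have h4 := h3 (b₀ ≫ rx p (i13 d m)) (b₀ ≫ rx p (i23 d m)) (hbase _) (hbase _) (Category.assoc _ _ _)
    (Category.assoc _ _ _)
  rw [cnt_sub] at h4
  refine ⟨b₀ ≫ rx p (i1 d m), b₀ ≫ rx p (i2 d m), hbase _, hbase _, ?_, ?_, h4⟩
  · rw [Category.assoc, ← ρ_fst hS, ← Category.assoc, hb₀]
  · rw [Category.assoc, ← ρ_snd hS, ← Category.assoc, hb₀]

/-- **The locus of pairs of rationally equivalent effective zero-cycles** of degree `d` is a countable union of irreducible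
closed subsets, each parametrised by a family of links. -/
theorem exists_locus [Uncountable k] [Nonempty X] (d : ℕ) :
    ∃ Z : ℕ → Set ↥(pullback (gs d) (gs d)), (∀ i, IsClosed (Z i) ∧ IsIrreducible (Z i)) ∧
      (∀ c : Spec (CommRingCat.of k) ⟶ pullback (gs d) (gs d), c ≫ pullback.fst (gs d) (gs d) ≫ gs d = 𝟙 _ →
        ((∃ i, c (IsLocalRing.closedPoint k) ∈ Z i) ↔ RatPt p qs gs d c)) ∧
      ∀ i, ∃ (m : ℕ) (F : Fam p Sy qs gs d m),
        ∀ c : Spec (CommRingCat.of k) ⟶ pullback (gs d) (gs d), c ≫ pullback.fst (gs d) (gs d) ≫ gs d = 𝟙 _ →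
          (c (IsLocalRing.closedPoint k) ∈ Z i ↔
            ∃ t : Spec (CommRingCat.of k) ⟶ F.T, t ≫ F.τ = 𝟙 _ ∧ t ≫ F.b ≫ ρ hS d m = c) := by
  classical
  have hpp := MorFam.isProper_of_isHProjective hX
  have hYd := MorFam.isProper_of_isHProjective (isHProjective_sym p hX (hS d))
  let P := pullback (gs d) (gs d)
  let gP : P ⟶ Spec (CommRingCat.of k) := pullback.fst (gs d) (gs d) ≫ gs d
  have hPn : IsLocallyNoetherian P := LocallyOfFiniteType.isLocallyNoetherian gP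
  have hPc : CompactSpace P := QuasiCompact.compactSpace_of_compactSpace gP
  have hPn' : IsNoetherian P := {}
  have hN : NoetherianSpace P := inferInstance
  have hPq : QuasiSeparatedSpace P := quasiSeparatedSpace_of_quasiSeparated gP
  obtain ⟨x₀, hx₀⟩ : ∃ x₀ : Spec (CommRingCat.of k) ⟶ X, x₀ ≫ p = 𝟙 _ := by
    have hJ : JacobsonSpace X := LocallyOfFiniteType.jacobsonSpace p
    obtain ⟨y, -, hy⟩ := nonempty_inter_closedPoints (X := X) (Z := Set.univ) Set.univ_nonempty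
      isClosed_univ.isLocallyClosed
    exact ⟨pointOfClosedPoint p y hy, pointOfClosedPoint_comp _ _ _⟩
  have hfam := fun m => exists_fams (qs := qs) (gs := gs) hX hS d m
  choose ι hι F hF using hfam
  -- morphisms to the square
  have hft : ∀ {m : ℕ} (G : Fam p Sy qs gs d m), LocallyOfFiniteType (G.b ≫ ρ hS d m) ∧ QuasiCompact (G.b ≫ ρ hS d m) ∧
      (G.b ≫ ρ hS d m) ≫ gP = G.τ := by
    intro m G
    have h1 : (G.b ≫ ρ hS d m) ≫ gP = G.τ := by
      rw [Category.assoc, ρ_base, G.hb]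
    have h2 : LocallyOfFiniteType ((G.b ≫ ρ hS d m) ≫ gP) := by
      rw [h1]
      exact K642.HQProj.locallyOfFiniteType G.qproj
    have h3 : QuasiCompact ((G.b ≫ ρ hS d m) ≫ gP) := by
      rw [h1]
      obtain ⟨n, i, hi, hc, hif⟩ := G.qproj
      rw [← hif]
      infer_instance
    exact ⟨locallyOfFiniteType_of_comp _ gP, QuasiCompact.of_comp _ gP, h1⟩
  let E : ∀ m, ι m → Set P := fun m i => Set.range ((F m i).b ≫ ρ hS d m)
  have hE : ∀ m i, Topology.IsConstructible (E m i) := by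
    intro m i
    obtain ⟨h1, h2, -⟩ := hft (F m i)
    exact BaireFin.isConstructible_range _
  -- lifting points
  have hlift : ∀ m i (c : Spec (CommRingCat.of k) ⟶ P), c ≫ gP = 𝟙 _ → c (IsLocalRing.closedPoint k) ∈ E m i →
      ∃ b₀ ∈ (F m i).pts, b₀ ≫ ρ hS d m = c := by
    intro m i c hc hci
    obtain ⟨h1, h2, h3⟩ := hft (F m i)
    obtain ⟨t, ht, -⟩ := exists_lift_point gP ((F m i).b ≫ ρ hS d m) Set.univ isClosed_univ c hc
      (by rw [Set.image_univ]; exact hci)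
    refine ⟨t ≫ (F m i).b, ⟨t, ?_, rfl⟩, by rw [Category.assoc, ht]⟩
    rw [← h3, ← Category.assoc, ht, hc]
  have hmem : ∀ m i (b₀ : Spec (CommRingCat.of k) ⟶ SymProd.fibPow p (d + d + m)), b₀ ∈ (F m i).pts →
      (b₀ ≫ ρ hS d m) (IsLocalRing.closedPoint k) ∈ E m i := by
    rintro m i _ ⟨t, ht, rfl⟩
    exact ⟨t (IsLocalRing.closedPoint k), rfl⟩
  -- every rational pair is in some family
  have hex : ∀ c : Spec (CommRingCat.of k) ⟶ P, RatPt p qs gs d c → ∃ m i, c (IsLocalRing.closedPoint k) ∈ E m i := by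
    intro c hc
    obtain ⟨m, b, f, hl, hb⟩ := exists_link_of_ratPt hS hX hc
    obtain ⟨i, hi⟩ := hF m b f hl
    refine ⟨m, i, ?_⟩
    rw [← hb]
    exact hmem m i b hi
  have hirr : ∀ a : Σ m, ι m, ∃ S : Set (Closeds P), S.Finite ∧ (∀ t ∈ S, IsIrreducible (t : Set P)) ∧
      (⟨closure (E a.1 a.2), isClosed_closure⟩ : Closeds P) = sSup S := fun a =>
    NoetherianSpace.exists_finite_set_closeds_irreducible _
  choose S hS1 hS2 hS3 using hirr
  have hSmem : ∀ a (x : P), x ∈ closure (E a.1 a.2) ↔ ∃ t ∈ S a, x ∈ t := by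
    intro a x
    have h1 : x ∈ (⟨closure (E a.1 a.2), isClosed_closure⟩ : Closeds P) ↔ x ∈ (sSup (S a) : Closeds P) := by rw [hS3]
    have h2 : ∀ T : Set (Closeds P), T.Finite → ((x ∈ (sSup T : Closeds P)) ↔ ∃ t ∈ T, x ∈ t) := by
      intro T hT
      lift T to Finset (Closeds P) using hT
      rw [← Finset.sup_id_eq_sSup, ← SetLike.mem_coe, Closeds.coe_finset_sup]
      simp
    exact h1.trans (h2 _ (hS1 a))
  have hcount : Countable (Σ m, ι m) := inferInstance
  let 𝒮 : Set (Closeds P) := ⋃ a, S a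
  have h𝒮c : 𝒮.Countable := Set.countable_iUnion fun a => (hS1 a).countable
  -- a rational pair
  have hRat : ∃ c : Spec (CommRingCat.of k) ⟶ P, c ≫ gP = 𝟙 _ ∧ RatPt p qs gs d c := by
    let x : Spec (CommRingCat.of k) ⟶ SymProd.fibPow p d := WidePullback.lift (𝟙 _) (fun _ => x₀) (fun _ => hx₀)
    have hx : x ≫ WidePullback.base (fun _ => p) = 𝟙 _ := WidePullback.lift_base _ _ _ _
    have hxg : (x ≫ qs d) ≫ gs d = 𝟙 _ := by rw [Category.assoc, (hS d).over, hx]
    refine ⟨pullback.lift (x ≫ qs d) (x ≫ qs d) rfl, ?_, x, x, hx, hx, (pullback.lift_fst _ _ _).symm,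
      (pullback.lift_snd _ _ _).symm, ?_⟩
    · simp only [gP]
      rw [pullback.lift_fst_assoc, hxg]
    · rw [sub_self]
      exact zero_mem _
  have h𝒮n : 𝒮.Nonempty := by
    obtain ⟨c, hc, hcr⟩ := hRat
    obtain ⟨m, i, hi⟩ := hex c hcr
    obtain ⟨t, ht, -⟩ := (hSmem ⟨m, i⟩ _).1 (subset_closure hi)
    exact ⟨t, Set.mem_iUnion.2 ⟨_, ht⟩⟩
  obtain ⟨Z, hZ⟩ := h𝒮c.exists_eq_range h𝒮n
  have hZS : ∀ i, ∃ a, Z i ∈ S a := fun i => Set.mem_iUnion.1 (by
    change Z i ∈ 𝒮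
    rw [hZ]
    exact ⟨i, rfl⟩)
  have hZrat : ∀ i (c : Spec (CommRingCat.of k) ⟶ P), c ≫ gP = 𝟙 _ → c (IsLocalRing.closedPoint k) ∈ Z i →
      RatPt p qs gs d c := by
    intro i c hc hci
    obtain ⟨a, ha⟩ := hZS i
    exact ratPt_of_mem_closure hS hX (F a.1 a.2) c hc ((hSmem a _).2 ⟨_, ha, hci⟩)
  refine ⟨fun i => Z i, fun i => ⟨(Z i).2, ?_⟩, fun c hc => ⟨?_, ?_⟩, fun i => ?_⟩
  · obtain ⟨a, ha⟩ := hZS i
    exact hS2 a _ ha
  · rintro ⟨i, hi⟩
    exact hZrat i c hc hi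
  · intro hcr
    obtain ⟨m, j, hj⟩ := hex c hcr
    obtain ⟨t, ht, hct⟩ := (hSmem ⟨m, j⟩ _).1 (subset_closure hj)
    have ht' : t ∈ Set.range Z := by
      rw [← hZ]
      exact Set.mem_iUnion.2 ⟨_, ht⟩
    obtain ⟨i, rfl⟩ := ht'
    exact ⟨i, hct⟩
  · -- closed points are rational pairs
    have hpt : ∀ x : P, IsClosed ({x} : Set P) → ∃ c : Spec (CommRingCat.of k) ⟶ P, c ≫ gP = 𝟙 _ ∧
        c (IsLocalRing.closedPoint k) = x := fun x hx =>
      ⟨pointOfClosedPoint gP x hx, pointOfClosedPoint_comp _ _ _, pointOfClosedPoint_apply _ _ _ _⟩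
    obtain ⟨s, hs⟩ := BaireFin.exists_finite_cover gP (fun a : Σ m, ι m => E a.1 a.2) (fun a => hE a.1 a.2) (Z i) (by
      intro x hx hxc
      obtain ⟨c, hc, rfl⟩ := hpt x hxc
      obtain ⟨m, j, hj⟩ := hex c (hZrat i c hc hx)
      exact ⟨⟨m, j⟩, hj⟩)
    let M := s.sup (fun a => a.1)
    have hM : ∀ x ∈ Z i, IsClosed ({x} : Set P) → ∃ j, x ∈ E M j := by
      intro x hx hxc
      obtain ⟨c, hc, rfl⟩ := hpt x hxc
      obtain ⟨⟨m, j⟩, hmj, hxj⟩ := hs _ hx hxc
      obtain ⟨b₀, ⟨t, ht, rfl⟩, hb⟩ := hlift m j c hc hxj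
      obtain ⟨b', f', hl, e1, e2⟩ := link_le p hS x₀ hx₀ M (Finset.le_sup (f := fun a : Σ m, ι m => a.1) hmj)
        ((F m j).isLink t ht)
      obtain ⟨j', hj'⟩ := hF M b' f' hl
      refine ⟨j', ?_⟩
      have h1 : b' ≫ ρ hS d M = c := by
        rw [← hb]
        apply pullback.hom_ext
        · rw [Category.assoc, Category.assoc, ρ_fst, ρ_fst, ← Category.assoc, e1, Category.assoc]
        · rw [Category.assoc, Category.assoc, ρ_snd, ρ_snd, ← Category.assoc, e2, Category.assoc]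
      rw [← h1]
      exact hmem M j' b' hj'
    obtain ⟨s', hs'⟩ := BaireFin.exists_finite_cover gP (E M) (hE M) (Z i) hM
    have hres := fun j => exists_restrict (F M j) (ρ hS d M ⁻¹' (Z i)) ((Z i).2.preimage (ρ hS d M).continuous)
    choose G hG using hres
    -- a family
    obtain ⟨j₀⟩ : Nonempty (ι M) := by
      have hne : (Z i : Set P).Nonempty := by
        obtain ⟨a, ha⟩ := hZS i
        exact (hS2 a _ ha).nonempty
      have hJ : JacobsonSpace P := LocallyOfFiniteType.jacobsonSpace gP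
      obtain ⟨y, hyZ, hyc⟩ := nonempty_inter_closedPoints (X := P) (Z := (Z i : Set P)) hne (Z i).2.isLocallyClosed
      obtain ⟨j, -⟩ := hM y hyZ hyc
      exact ⟨j⟩
    obtain ⟨G', hG'⟩ := exists_finset_union G (F M j₀) s'
    refine ⟨M, G', fun c hc => ⟨fun hci => ?_, ?_⟩⟩
    · obtain ⟨j, hj, hcj⟩ := hs' _ hci (SymCnt.isClosed_section gP c hc)
      obtain ⟨b₀, hb₀, hb⟩ := hlift M j c hc hcj
      have h1 : b₀ ∈ G'.pts := by
        rw [hG']
        refine Set.mem_biUnion hj ?_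
        rw [hG]
        refine ⟨hb₀, ?_⟩
        change (ρ hS d M) (b₀ (IsLocalRing.closedPoint k)) ∈ (Z i : Set P)
        rw [← Scheme.Hom.comp_apply, hb]
        exact hci
      obtain ⟨t, ht, rfl⟩ := h1
      exact ⟨t, ht, by rw [← Category.assoc, hb]⟩
    · rintro ⟨t, ht, rfl⟩
      have h1 : t ≫ G'.b ∈ G'.pts := ⟨t, ht, rfl⟩
      rw [hG'] at h1
      obtain ⟨j, hj, h2⟩ := Set.mem_iUnion₂.1 h1
      rw [hG] at h2
      have h3 : (ρ hS d M) ((t ≫ G'.b) (IsLocalRing.closedPoint k)) ∈ (Z i : Set P) := h2.2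
      rw [← Scheme.Hom.comp_apply, Category.assoc] at h3
      exact h3

end K754.SymLocus
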