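import Groth.Agent.ZCorr.K952.P1Sym
import Groth.Agent.S2925
import Groth.Agent.Sga7.H270.FinPts

/-!
# Points of fibre powers and symmetric products

* `rx φ`: reindexing `X^b ⟶ X^a` along `φ : Fin a → Fin b`.
* `ins x₀ n : X^n ⟶ X^(n+1)`: adjoining the constant coordinate `x₀`; `exists_tr`: it descends to symmetric products.
* `cnt t`: the zero cycle of a point `t` of `X^n`.
-/

set_option autoImplicit false
universe u

open CategoryTheory CategoryTheory.Limits AlgebraicGeometry TopologicalSpace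
open Groth.Agent

namespace K754.SymPt

section Index

variable {X S : Scheme.{u}} (p : X ⟶ S)

/-- reindexing of fibre powers -/
noncomputable def rx {a b : ℕ} (φ : Fin a → Fin b) : SymProd.fibPow p b ⟶ SymProd.fibPow p a :=
  WidePullback.lift (WidePullback.base _) (fun i => WidePullback.π _ (φ i)) (by simp)

@[reassoc]
theorem rx_π {a b : ℕ} (φ : Fin a → Fin b) (i : Fin a) :
    rx p φ ≫ WidePullback.π (fun _ => p) i = WidePullback.π (fun _ => p) (φ i) := by
  unfold rx
  exact WidePullback.lift_π _ _ _ _ i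

@[reassoc]
theorem rx_base {a b : ℕ} (φ : Fin a → Fin b) :
    rx p φ ≫ WidePullback.base (fun _ => p) = WidePullback.base (fun _ => p) := by
  unfold rx
  exact WidePullback.lift_base _ _ _ _

variable (x₀ : S ⟶ X) (h₀ : x₀ ≫ p = 𝟙 S)

/-- adjoining a constant last coordinate -/
noncomputable def ins (n : ℕ) : SymProd.fibPow p n ⟶ SymProd.fibPow p (n + 1) :=
  WidePullback.lift (WidePullback.base _)
    (fun i => Fin.lastCases (motive := fun _ => SymProd.fibPow p n ⟶ X) (WidePullback.base _ ≫ x₀)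
      (fun j => WidePullback.π _ j) i) (by
      intro i
      refine Fin.lastCases ?_ (fun j => ?_) i
      · rw [Fin.lastCases_last, Category.assoc, h₀, Category.comp_id]
      · rw [Fin.lastCases_castSucc]
        exact WidePullback.π_arrow _ j)

@[reassoc]
theorem ins_π_last (n : ℕ) : ins p x₀ h₀ n ≫ WidePullback.π (fun _ => p) (Fin.last n) =
    WidePullback.base (fun _ => p) ≫ x₀ := by
  unfold ins
  rw [WidePullback.lift_π, Fin.lastCases_last]

@[reassoc]
theorem ins_π_castSucc (n : ℕ) (j : Fin n) : ins p x₀ h₀ n ≫ WidePullback.π (fun _ => p) j.castSucc =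
    WidePullback.π (fun _ => p) j := by
  unfold ins
  rw [WidePullback.lift_π, Fin.lastCases_castSucc]

@[reassoc]
theorem ins_base (n : ℕ) : ins p x₀ h₀ n ≫ WidePullback.base (fun _ => p) = WidePullback.base (fun _ => p) := by
  unfold ins
  exact WidePullback.lift_base _ _ _ _

/-- extension of permutations -/
theorem exists_perm {n : ℕ} (σ : Equiv.Perm (Fin n)) : ∃ σ' : Equiv.Perm (Fin (n + 1)),
    σ' (Fin.last n) = Fin.last n ∧ ∀ i : Fin n, σ' i.castSucc = (σ i).castSucc := by
  refine ⟨finSumFinEquiv.symm.trans ((Equiv.sumCongr σ (Equiv.refl (Fin 1))).trans finSumFinEquiv), ?_, fun i => ?_⟩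
  · have h1 : (finSumFinEquiv (m := n) (n := 1)).symm (Fin.last n) = Sum.inr 0 := by
      rw [Equiv.symm_apply_eq]
      rfl
    simp only [Equiv.trans_apply, h1]
    rfl
  · have h1 : (finSumFinEquiv (m := n) (n := 1)).symm i.castSucc = Sum.inl i := by
      rw [Equiv.symm_apply_eq]
      rfl
    simp only [Equiv.trans_apply, h1]
    rfl

/-- **Adding a fixed point on symmetric products.** -/
theorem exists_tr (n : ℕ) {Sn Sn' : Scheme.{u}} {q : SymProd.fibPow p n ⟶ Sn} {g : Sn ⟶ S}
    (hS : SymProd.IsSymProd p n q g) {q' : SymProd.fibPow p (n + 1) ⟶ Sn'} {g' : Sn' ⟶ S}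
    (hS' : SymProd.IsSymProd p (n + 1) q' g') : ∃ τ : Sn ⟶ Sn', q ≫ τ = ins p x₀ h₀ n ≫ q' ∧ τ ≫ g' = g := by
  obtain ⟨τ, hτ, -⟩ := Groth.Agent.S2925.result (SymProd.permActU p n) q hS.isQuot Sn' (ins p x₀ h₀ n ≫ q') (by
    rintro ⟨σ⟩
    obtain ⟨σ', h1, h2⟩ := exists_perm σ.symm
    have h3 : SymProd.permHom p n σ ≫ ins p x₀ h₀ n = ins p x₀ h₀ n ≫ SymProd.permHom p (n + 1) σ'.symm := by
      apply WidePullback.hom_ext
      · intro i
        rw [Category.assoc, Category.assoc, SymProd.permHom_π, Equiv.symm_symm]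
        refine Fin.lastCases ?_ (fun j => ?_) i
        · rw [h1, ins_π_last, SymProd.permHom_base_assoc]
        · rw [h2, ins_π_castSucc, ins_π_castSucc, SymProd.permHom_π]
      · rw [Category.assoc, Category.assoc, SymProd.permHom_base, ins_base, SymProd.permHom_base]
    have h4 : SymProd.permHom p (n + 1) σ'.symm ≫ q' = q' := hS'.isQuot.inv ⟨σ'.symm⟩
    rw [SymProd.permActU_hom]
    change SymProd.permHom p n σ ≫ ins p x₀ h₀ n ≫ q' = _
    rw [← Category.assoc, h3, Category.assoc, h4])
  refine ⟨τ, hτ, ?_⟩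
  have h5 : ∀ {W : Scheme.{u}} (a b : Sn ⟶ W), q ≫ a = q ≫ b → a = b := by
    intro W a b hab
    exact (Groth.Agent.S2925.result (SymProd.permActU p n) q hS.isQuot W (q ≫ b) (fun σ => by
      rw [← Category.assoc, hS.isQuot.inv σ])).unique hab rfl
  apply h5
  rw [← Category.assoc, hτ, Category.assoc, hS'.over, ins_base, hS.over]

end Index

end K754.SymPt
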