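import Groth.Agent.ZCorr.K754.SymCnt

/-!
# Rational equivalence of points of symmetric products

* `SRel`: the relation on points of a symmetric product; `srel_trans`, `srel_of_map`.
* `exists_map`: rationally equivalent effective cycles and rational curves in symmetric products, in terms of points of
  fibre powers; `exists_map_succ`: raising the degree.
-/

set_option autoImplicit false
universe u

open CategoryTheory CategoryTheory.Limits AlgebraicGeometry TopologicalSpace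
open Groth.Agent K952.Basic K952.Pts

namespace K754.SymRel

open SymPt SymCnt K952 K952.P1Core Groth.Agent.CycA.MovRatZ

variable {k : Type u} [Field k] {X : Scheme.{u}} (p : X ⟶ Spec (CommRingCat.of k))

/-- The relation on points of a symmetric product. -/
def SRel {n : ℕ} {Sy : Scheme.{u}} (q : SymProd.fibPow p n ⟶ Sy) (u v : Spec (CommRingCat.of k) ⟶ Sy) : Prop :=
  ∀ t s : Spec (CommRingCat.of k) ⟶ SymProd.fibPow p n, t ≫ WidePullback.base (fun _ => p) = 𝟙 _ →
    s ≫ WidePullback.base (fun _ => p) = 𝟙 _ → t ≫ q = u → s ≫ q = v → (cnt p t - cnt p s : X → ℤ) ∈ RZ p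

theorem exists_lift [IsAlgClosed k] {n : ℕ} {Sy : Scheme.{u}} {q : SymProd.fibPow p n ⟶ Sy}
    {g : Sy ⟶ Spec (CommRingCat.of k)} (hS : SymProd.IsSymProd p n q g) (u : Spec (CommRingCat.of k) ⟶ Sy)
    (hu : u ≫ g = 𝟙 _) : ∃ t : Spec (CommRingCat.of k) ⟶ SymProd.fibPow p n,
      t ≫ WidePullback.base (fun _ => p) = 𝟙 _ ∧ t ≫ q = u := by
  have h1 : IsIntegralHom q := Groth.Agent.Sga1.QuotBasic.isIntegralHom_of_isQuot hS.isQuot
  obtain ⟨t, ht⟩ := LiftPt.exists_lift q (Groth.Agent.Sga1.QuotBasic.surjective_of_isQuot hS.isQuot) u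
  refine ⟨t, ?_, ht⟩
  rw [← hS.over, ← Category.assoc, ht, hu]

theorem srel_trans [IsAlgClosed k] {n : ℕ} {Sy : Scheme.{u}} {q : SymProd.fibPow p n ⟶ Sy}
    {g : Sy ⟶ Spec (CommRingCat.of k)} (hS : SymProd.IsSymProd p n q g) (u v w : Spec (CommRingCat.of k) ⟶ Sy)
    (hv : v ≫ g = 𝟙 _) (h1 : SRel p q u v) (h2 : SRel p q v w) : SRel p q u w := by
  intro t s ht hs htu hsw
  obtain ⟨r, hr, hrv⟩ := exists_lift p hS v hv
  have h3 := add_mem (h1 t r ht hr htu hrv) (h2 r s hr hs hrv hsw)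
  rwa [sub_add_sub_cancel] at h3

variable [IsProper p]

theorem ratEquiv_iff (α β : AlgebraicCycle X ℤ) :
    Cyc.RatEquiv (fun x => (dm p x : ℤ)) 0 α β ↔ (⇑α - ⇑β : X → ℤ) ∈ RZ p := by
  have hset := isSetup_dm p
  have hN : IsLocallyNoetherian X := hset.1
  have hcX : CompactSpace X := QuasiCompact.compactSpace_of_compactSpace p
  exact ratEquivZero_iff_mem_ratZ hset.2.2 (α - β)

theorem exists_cycle {n : ℕ} (t : Spec (CommRingCat.of k) ⟶ SymProd.fibPow p n) :
    ∃ α : AlgebraicCycle X ℤ, ⇑α = cnt p t := by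
  have hcX : CompactSpace X := QuasiCompact.compactSpace_of_compactSpace p
  exact exists_cycle_of_finite_support (finite_support p t)

theorem dm_eq_zero {n : ℕ} (t : Spec (CommRingCat.of k) ⟶ SymProd.fibPow p n)
    (ht : t ≫ WidePullback.base (fun _ => p) = 𝟙 _) (x : X) (hx : cnt p t x ≠ 0) : dm p x = 0 := by
  obtain ⟨i, rfl⟩ := exists_coord p t hx
  rw [dm_eq_zero_iff_isClosed]
  exact isClosed_section p _ (section_π p t ht i)

variable [IsAlgClosed k] [CharZero k]

/-- Points on a rational curve are related. -/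
theorem srel_of_map {n : ℕ} {Sy : Scheme.{u}} {q : SymProd.fibPow p n ⟶ Sy}
    {g : Sy ⟶ Spec (CommRingCat.of k)} (hS : SymProd.IsSymProd p n q g)
    (ψ : CohB1.ProjSpace 1 k ⟶ Sy) (hψ : ψ ≫ g = CohB1.ProjSpace.toSpec 1 k)
    (s t : Spec (CommRingCat.of k) ⟶ CohB1.ProjSpace 1 k) (hs : s ≫ CohB1.ProjSpace.toSpec 1 k = 𝟙 _)
    (ht : t ≫ CohB1.ProjSpace.toSpec 1 k = 𝟙 _) : SRel p q (s ≫ ψ) (t ≫ ψ) := by
  intro a b ha hb hau hbv
  obtain ⟨α, hα⟩ := exists_cycle p a
  obtain ⟨β, hβ⟩ := exists_cycle p b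
  rw [← hα, ← hβ, ← ratEquiv_iff]
  refine P1Sym.ratEquiv_of_map (γ := 0) p n q g hS ψ s t hψ hs ht ?_ ?_
  · rw [add_zero, hα, ← hau]
    exact isCycle p q a
  · rw [add_zero, hβ, ← hbv]
    exact isCycle p q b

end K754.SymRel
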